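import Groth.Agent.FSmooth.Main
import Groth.Prelude

/-!
# Affine criteria for formally smooth and formally étale morphisms
-/

set_option autoImplicit false

universe u

open CategoryTheory CategoryTheory.Limits AlgebraicGeometry

namespace Groth.FSmooth

variable {X Y : Scheme.{u}} {f : X ⟶ Y}

lemma mk_sq {A : Type u} [CommRing A] {I : Ideal A} (hI : I ^ 2 = ⊥) (x y : A)
    (hx : Ideal.Quotient.mk I x = 0) (hy : Ideal.Quotient.mk I y = 0) : x * y = 0 := by
  rw [← Ideal.mem_bot, ← hI, pow_two]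
  exact Ideal.mul_mem_mul (Ideal.Quotient.eq_zero_iff_mem.1 hx)
    (Ideal.Quotient.eq_zero_iff_mem.1 hy)

/-- The lifting property gives formally smooth charts. -/
theorem formallySmooth_of_lifts (hf : MoreMor.IsFormallySmoothHom f) (U : X.Opens) (V : Y.Opens)
    (hU : IsAffineOpen U) (hV : IsAffineOpen V) (hUV : U ≤ f ⁻¹ᵁ V) :
    letI := (f.appLE V U hUV).hom.toAlgebra
    Algebra.FormallySmooth Γ(Y, V) Γ(X, U) := by
  letI := (f.appLE V U hUV).hom.toAlgebra
  refine Algebra.FormallySmooth.of_comp_surjective fun Q _ _ I hI s => ?_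
  have hs : f.appLE V U hUV ≫ CommRingCat.ofHom s.toRingHom =
      CommRingCat.ofHom (algebraMap Γ(Y, V) (Q ⧸ I)) := CommRingCat.hom_ext s.comp_algebraMap
  obtain ⟨l, hl1, hl2⟩ := hf Q I hI (Spec.map (CommRingCat.ofHom s.toRingHom) ≫ hU.fromSpec)
    (Spec.map (CommRingCat.ofHom (algebraMap Γ(Y, V) Q)) ≫ hV.fromSpec) (by
      rw [← Spec.map_comp_assoc, Category.assoc,
        ← IsAffineOpen.SpecMap_appLE_fromSpec f hV hU hUV, ← Spec.map_comp_assoc, hs]
      rfl)
  have hrange : Set.range l ⊆ Set.range hU.fromSpec := by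
    rintro _ ⟨z, rfl⟩
    obtain ⟨z', rfl⟩ := surjective_SpecMap (Ideal.Quotient.mk I) Ideal.Quotient.mk_surjective
      (mk_sq hI) z
    rw [← Scheme.Hom.comp_apply, hl1, Scheme.Hom.comp_apply]
    exact ⟨_, rfl⟩
  let t : Γ(X, U) ⟶ CommRingCat.of Q := Spec.preimage (IsOpenImmersion.lift hU.fromSpec l hrange)
  have ht : Spec.map t ≫ hU.fromSpec = l := by
    rw [Spec.map_preimage, IsOpenImmersion.lift_fac]
  have htc : f.appLE V U hUV ≫ t = CommRingCat.ofHom (algebraMap Γ(Y, V) Q) := by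
    apply Spec.map_injective
    rw [← cancel_mono hV.fromSpec, Spec.map_comp, Category.assoc,
      IsAffineOpen.SpecMap_appLE_fromSpec f hV hU hUV, reassoc_of% ht, hl2]
  refine ⟨{ t.hom with commutes' := fun r => congr($htc r) }, ?_⟩
  have h : t ≫ CommRingCat.ofHom (Ideal.Quotient.mk I) = CommRingCat.ofHom s.toRingHom := by
    apply Spec.map_injective
    rw [← cancel_mono hU.fromSpec, Spec.map_comp, Category.assoc, ht, hl1]
  exact AlgHom.ext fun z => congr($h z)

/-- `S1486`. -/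
theorem isFormallySmoothHom_iff (f : X ⟶ Y) :
    MoreMor.IsFormallySmoothHom f ↔
      ∀ (U : X.Opens) (V : Y.Opens) (_ : IsAffineOpen U) (_ : IsAffineOpen V) (hUV : U ≤ f ⁻¹ᵁ V),
        letI := (f.appLE V U hUV).hom.toAlgebra
        Algebra.FormallySmooth Γ(Y, V) Γ(X, U) :=
  ⟨fun hf => formallySmooth_of_lifts hf, fun h A _ I hI a b w => exists_lift_of_charts f h A I hI a b w⟩

lemma formallyUnramified_of_uniqueLifts (hf : MoreMor.IsFormallyEtaleHom f) :
    AlgebraicGeometry.FormallyUnramified f := by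
  refine AlgebraicGeometry.FormallyUnramified.of_hom_ext f fun R S φ hφ hker g₁ g₂ h₁ h₂ => ?_
  let e : (CommRingCat.of (R ⧸ RingHom.ker φ.hom)) ≅ S :=
    (RingHom.quotientKerEquivOfSurjective hφ).toCommRingCatIso
  have he : CommRingCat.ofHom (Ideal.Quotient.mk (RingHom.ker φ.hom)) ≫ e.hom = φ := rfl
  have h1 : Spec.map (CommRingCat.ofHom (Ideal.Quotient.mk (RingHom.ker φ.hom))) ≫ g₁ =
      Spec.map (CommRingCat.ofHom (Ideal.Quotient.mk (RingHom.ker φ.hom))) ≫ g₂ := by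
    rw [← cancel_epi (Spec.map e.hom), ← Spec.map_comp_assoc, ← Spec.map_comp_assoc, he]
    exact h₁
  obtain ⟨l, -, hu⟩ := hf R (RingHom.ker φ.hom) hker
    (Spec.map (CommRingCat.ofHom (Ideal.Quotient.mk (RingHom.ker φ.hom))) ≫ g₁) (g₁ ≫ f)
    (Category.assoc _ _ _).symm
  rw [hu g₁ ⟨rfl, rfl⟩, hu g₂ ⟨h1.symm, h₂.symm⟩]

/-- Uniqueness of lifts. -/
lemma lift_unique [AlgebraicGeometry.FormallyUnramified f] {A : Type u} [CommRing A] {I : Ideal A}
    (hI : I ^ 2 = ⊥) {l l' : Spec (CommRingCat.of A) ⟶ X}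
    (h : Spec.map (CommRingCat.ofHom (Ideal.Quotient.mk I)) ≫ l =
      Spec.map (CommRingCat.ofHom (Ideal.Quotient.mk I)) ≫ l')
    (h' : l ≫ f = l' ≫ f) : l = l' := by
  haveI : IsClosedImmersion (Spec.map (CommRingCat.ofHom (Ideal.Quotient.mk I))) :=
    IsClosedImmersion.spec_of_surjective _ Ideal.Quotient.mk_surjective
  refine AlgebraicGeometry.FormallyUnramified.hom_ext _ ⟨2, ?_⟩ f h h'
  exact (pow_two _).trans (ker_SpecMap_sq (Ideal.Quotient.mk I) (mk_sq hI))

/-- `S1487`. -/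
theorem isFormallyEtaleHom_iff (f : X ⟶ Y) :
    MoreMor.IsFormallyEtaleHom f ↔
      ∀ (U : X.Opens) (V : Y.Opens) (_ : IsAffineOpen U) (_ : IsAffineOpen V) (hUV : U ≤ f ⁻¹ᵁ V),
        letI := (f.appLE V U hUV).hom.toAlgebra
        Algebra.FormallyEtale Γ(Y, V) Γ(X, U) := by
  constructor
  · intro hf U V hU hV hUV
    letI := (f.appLE V U hUV).hom.toAlgebra
    haveI := formallyUnramified_of_uniqueLifts hf
    haveI : Algebra.FormallyUnramified Γ(Y, V) Γ(X, U) := f.formallyUnramified_appLE hV hU hUV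
    haveI : Algebra.FormallySmooth Γ(Y, V) Γ(X, U) :=
      formallySmooth_of_lifts (fun A _ I hI a b w => (hf A I hI a b w).exists) U V hU hV hUV
    exact .of_formallyUnramified_and_formallySmooth
  · intro h A _ I hI a b w
    haveI : AlgebraicGeometry.FormallyUnramified f := ⟨fun {V} hV {U} hU e => by
      letI := (f.appLE V U e).hom.toAlgebra
      haveI := h U V hU hV e
      exact (inferInstance : Algebra.FormallyUnramified Γ(Y, V) Γ(X, U))⟩
    obtain ⟨l, hl⟩ := exists_lift_of_charts f (fun U V hU hV e => by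
      letI := (f.appLE V U e).hom.toAlgebra
      haveI := h U V hU hV e
      infer_instance) A I hI a b w
    exact ⟨l, hl, fun l' hl' => lift_unique (f := f) hI (hl'.1.trans hl.1.symm) (hl'.2.trans hl.2.symm)⟩

/-- `S1488`. -/
theorem smooth_iff (f : X ⟶ Y) :
    Smooth f ↔ LocallyOfFinitePresentation f ∧ MoreMor.IsFormallySmoothHom f := by
  constructor
  · intro _
    refine ⟨inferInstance, (isFormallySmoothHom_iff f).2 fun U V hU hV e => ?_⟩
    letI := (f.appLE V U e).hom.toAlgebra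
    have h : Algebra.Smooth Γ(Y, V) Γ(X, U) := f.smooth_appLE hV hU e
    exact h.formallySmooth
  · rintro ⟨_, hf⟩
    refine ⟨fun {V} hV {U} hU e => ?_⟩
    letI := (f.appLE V U e).hom.toAlgebra
    haveI := formallySmooth_of_lifts hf U V hU hV e
    haveI : Algebra.FinitePresentation Γ(Y, V) Γ(X, U) := f.finitePresentation_appLE hV hU e
    exact (⟨inferInstance, inferInstance⟩ : Algebra.Smooth Γ(Y, V) Γ(X, U))

/-- `S1489`. -/
theorem etale_iff (f : X ⟶ Y) :
    Etale f ↔ LocallyOfFinitePresentation f ∧ MoreMor.IsFormallyEtaleHom f := by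
  constructor
  · intro _
    refine ⟨inferInstance, (isFormallyEtaleHom_iff f).2 fun U V hU hV e => ?_⟩
    letI := (f.appLE V U e).hom.toAlgebra
    have h : Algebra.Etale Γ(Y, V) Γ(X, U) := f.etale_appLE hV hU e
    exact h.formallyEtale
  · rintro ⟨_, hf⟩
    refine ⟨fun {V} hV {U} hU e => ?_⟩
    letI := (f.appLE V U e).hom.toAlgebra
    haveI := (isFormallyEtaleHom_iff f).1 hf U V hU hV e
    haveI : Algebra.FinitePresentation Γ(Y, V) Γ(X, U) := f.finitePresentation_appLE hV hU e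
    exact (⟨inferInstance, inferInstance⟩ : Algebra.Etale Γ(Y, V) Γ(X, U))

lemma comap_ker_sq {T T' Z : Scheme.{u}} (t : T ⟶ T') (h : Z ⟶ T') (ht : t.ker * t.ker = ⊥) :
    t.ker.comap h * t.ker.comap h = ⊥ := by
  let S := {p : Z.affineOpens × T'.affineOpens // p.1.1 ≤ h ⁻¹ᵁ p.2.1}
  refine Scheme.IdealSheafData.ext_of_iSup_eq_top (fun p : S => p.1.1) ?_ ?_
  · rw [eq_top_iff]
    intro y _
    obtain ⟨_, ⟨V, hV, rfl⟩, hyV, -⟩ :=
      T'.isBasis_affineOpens.exists_subset_of_mem_open (Set.mem_univ (h y)) isOpen_univ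
    obtain ⟨_, ⟨U, hU, rfl⟩, hyU, hUV⟩ :=
      Z.isBasis_affineOpens.exists_subset_of_mem_open hyV (V.2.preimage h.continuous)
    exact TopologicalSpace.Opens.mem_iSup.2 ⟨⟨(⟨U, hU⟩, ⟨V, hV⟩), hUV⟩, hyU⟩
  · rintro ⟨⟨U, V⟩, hUV⟩
    have hV : t.ker.ideal V * t.ker.ideal V = ⊥ := by
      simpa using congr($(congrArg Scheme.IdealSheafData.ideal ht) V)
    simp only [Scheme.IdealSheafData.ideal_mul, Pi.mul_apply, Scheme.IdealSheafData.ideal_bot,
      Pi.bot_apply, Groth.Agent.IdealComap.ideal_comap _ h U V hUV, ← Ideal.map_mul, hV, Ideal.map_bot]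

/-- `S1516`. -/
theorem existsUnique_lift_thickening {X S : Scheme.{u}} (f : X ⟶ S)
    (hf : MoreMor.IsFormallyEtaleHom f) {T T' : Scheme.{u}} (t : T ⟶ T')
    (ht : MoreMor.IsFirstOrderThickening t) (a : T ⟶ X) (b : T' ⟶ S) (w : t ≫ b = a ≫ f) :
    ∃! l : T' ⟶ X, t ≫ l = a ∧ l ≫ f = b := by
  obtain ⟨⟨_, _⟩, hsq⟩ := ht
  haveI := formallyUnramified_of_uniqueLifts hf
  have hnil : IsNilpotent t.ker := ⟨2, by rw [pow_two]; exact hsq⟩
  suffices ∃ l : T' ⟶ X, t ≫ l = a ∧ l ≫ f = b by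
    obtain ⟨l, hl⟩ := this
    exact ⟨l, hl, fun l' hl' => AlgebraicGeometry.FormallyUnramified.hom_ext t hnil f
      (hl'.1.trans hl.1.symm) (hl'.2.trans hl.2.symm)⟩
  let 𝒰 := T'.affineCover
  have hloc : ∀ j, ∃ l : 𝒰.X j ⟶ X,
      pullback.fst (𝒰.f j) t ≫ l = pullback.snd (𝒰.f j) t ≫ a ∧ l ≫ f = 𝒰.f j ≫ b := by
    intro j
    let Q := 𝒰.X j
    let s : pullback (𝒰.f j) t ⟶ Q := pullback.fst _ _
    haveI : IsAffine Q := inferInstanceAs (IsAffine (𝒰.X j))
    haveI : IsAffine (pullback (𝒰.f j) t) := isAffine_of_isAffineHom s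
    let I := RingHom.ker s.appTop.hom
    have hI : I ^ 2 = ⊥ := by
      have h := comap_ker_sq t (𝒰.f j) hsq
      rw [← Scheme.IdealSheafData.ker_fst_of_isClosedImmersion] at h
      have h' := congr($(congrArg Scheme.IdealSheafData.ideal h) ⟨⊤, isAffineOpen_top _⟩)
      simp only [Scheme.IdealSheafData.ideal_mul, Pi.mul_apply, Scheme.IdealSheafData.ideal_bot,
        Pi.bot_apply, Scheme.Hom.ker_apply] at h'
      rw [pow_two]
      exact h'
    have hsurj : Function.Surjective s.appTop.hom :=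
      Scheme.Hom.app_surjective s ⊤ (isAffineOpen_top _)
    let e : Γ(pullback (𝒰.f j) t, ⊤) ≅ CommRingCat.of (Γ(Q, ⊤) ⧸ I) :=
      (RingHom.quotientKerEquivOfSurjective hsurj).symm.toCommRingCatIso
    have he : s.appTop ≫ e.hom = CommRingCat.ofHom (Ideal.Quotient.mk I) := by
      rw [← Iso.eq_comp_inv]
      rfl
    let j' := Spec.map e.hom ≫ (pullback (𝒰.f j) t).isoSpec.inv
    have hj : Spec.map (CommRingCat.ofHom (Ideal.Quotient.mk I)) ≫ Q.isoSpec.inv = j' ≫ s := by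
      rw [← he, Spec.map_comp, Category.assoc, Category.assoc, Scheme.isoSpec_inv_naturality]
    obtain ⟨l, ⟨hl1, hl2⟩, -⟩ := hf Γ(Q, ⊤) I hI (j' ≫ pullback.snd _ _ ≫ a)
      (Q.isoSpec.inv ≫ 𝒰.f j ≫ b) (by
        rw [reassoc_of% hj, pullback.condition_assoc, w]
        simp only [Category.assoc])
    refine ⟨Q.isoSpec.hom ≫ l, ?_, by rw [Category.assoc, hl2, Iso.hom_inv_id_assoc]⟩
    rw [← cancel_epi j', ← reassoc_of% hj, Iso.inv_hom_id_assoc, hl1]
  choose l hl1 hl2 using hloc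
  have hglue : ∀ i j, pullback.fst (𝒰.f i) (𝒰.f j) ≫ l i = pullback.snd _ _ ≫ l j := by
    intro i j
    let h : pullback (𝒰.f i) (𝒰.f j) ⟶ T' := pullback.fst _ _ ≫ 𝒰.f i
    have hn : IsNilpotent (pullback.fst h t).ker := ⟨2, by
      rw [pow_two, Scheme.IdealSheafData.ker_fst_of_isClosedImmersion]
      exact comap_ker_sq t h hsq⟩
    refine AlgebraicGeometry.FormallyUnramified.hom_ext (pullback.fst h t) hn f ?_ ?_
    · let p₁ : pullback h t ⟶ pullback (𝒰.f i) t :=
        pullback.map h t (𝒰.f i) t (pullback.fst _ _) (𝟙 _) (𝟙 _) (by simp [h]) (by simp)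
      let p₂ : pullback h t ⟶ pullback (𝒰.f j) t :=
        pullback.map h t (𝒰.f j) t (pullback.snd _ _) (𝟙 _) (𝟙 _)
          (by simp [h, pullback.condition]) (by simp)
      have e₁ := congrArg (p₁ ≫ ·) (hl1 i)
      have e₂ := congrArg (p₂ ≫ ·) (hl1 j)
      simp only [p₁, p₂, pullback.map, pullback.lift_fst_assoc, pullback.lift_snd_assoc,
        Category.comp_id, Category.assoc] at e₁ e₂
      exact e₁.trans e₂.symm
    · rw [Category.assoc, Category.assoc, hl2, hl2, pullback.condition_assoc]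
  refine ⟨Scheme.Cover.glueMorphisms 𝒰 l hglue, ?_, ?_⟩
  · refine Scheme.Cover.hom_ext (𝒰.pullback₁ t) _ _ fun j => ?_
    show pullback.fst t (𝒰.f j) ≫ t ≫ _ = pullback.fst t (𝒰.f j) ≫ a
    rw [pullback.condition_assoc, Scheme.Cover.ι_glueMorphisms,
      ← pullbackSymmetry_hom_comp_fst t (𝒰.f j), Category.assoc, hl1 j,
      pullbackSymmetry_hom_comp_snd_assoc]
  · refine Scheme.Cover.hom_ext 𝒰 _ _ fun j => ?_
    rw [Scheme.Cover.ι_glueMorphisms_assoc, hl2]

end Groth.FSmooth
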