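import Groth.Agent.MLMod.Descent
import Mathlib.RingTheory.Smooth.Basic
import Mathlib.RingTheory.Flat.FaithfullyFlat.Algebra
import Mathlib.LinearAlgebra.TensorProduct.Pi

/-!
# Algebra for the local to global lifting problem
-/

set_option autoImplicit false

universe u

open TensorProduct

namespace Groth.FSmooth

/-- The conormal module of an augmentation of a formally smooth algebra is projective. -/
theorem projective_cotangent_of_augmentation {R T : Type u} [CommRing R] [CommRing T] [Algebra R T]
    [Algebra.FormallySmooth R T] (aug : T →ₐ[R] R) :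
    Module.Projective R (RingHom.ker aug.toRingHom).Cotangent := by
  letI : Algebra T R := aug.toRingHom.toAlgebra
  haveI : IsScalarTower R T R := IsScalarTower.of_algebraMap_eq fun r => (aug.commutes r).symm
  have hsurj : Function.Surjective (algebraMap T R) := fun r => ⟨algebraMap R T r, aug.commutes r⟩
  obtain ⟨l, hl⟩ :=
    (Algebra.FormallySmooth.iff_split_injection (R := R) (P := T) (A := R) hsurj).1 inferInstance
  haveI : Module.Projective R (R ⊗[T] Ω[T⁄R]) := inferInstance
  exact Module.Projective.of_split (M := R ⊗[T] Ω[T⁄R])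
    ((KaehlerDifferential.kerCotangentToTensor R T R).restrictScalars R) (l.restrictScalars R)
    (LinearMap.ext fun x => congr($hl x))

/-- If `Bg ⊗ M` factors through a projective conormal module, it is projective. -/
theorem projective_baseChange_of_factor {B D Bg T : Type u} [CommRing B] [CommRing D] [Algebra B D]
    [CommRing Bg] [Algebra B Bg] [Module.Flat B Bg] [CommRing T] [Algebra Bg T] [Algebra B T]
    [IsScalarTower B Bg T] [Algebra.FormallySmooth Bg T] (aug : T →ₐ[Bg] Bg) (pD : D →ₐ[B] B)
    (qD : Bg ⊗[B] D →ₐ[Bg] Bg) (hqD : ∀ d, qD (1 ⊗ₜ d) = algebraMap B Bg (pD d))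
    (r : D →ₐ[B] T ⧸ RingHom.ker aug.toRingHom ^ 2)
    (hr : ∀ d, pD d = 0 → r d ∈ (RingHom.ker aug.toRingHom).cotangentIdeal)
    (τ : T ⧸ RingHom.ker aug.toRingHom ^ 2 →ₐ[Bg] Bg ⊗[B] D)
    (hτ : ∀ t, qD (τ (Ideal.Quotient.mk _ t)) = aug t) (hτr : ∀ d, τ (r d) = 1 ⊗ₜ d) :
    Module.Projective Bg (Bg ⊗[B] LinearMap.ker pD.toLinearMap) := by
  let M := LinearMap.ker pD.toLinearMap
  haveI : Module.Projective Bg (RingHom.ker aug.toRingHom).Cotangent := projective_cotangent_of_augmentation aug
  let c : (RingHom.ker aug.toRingHom).Cotangent →ₗ[T] T ⧸ RingHom.ker aug.toRingHom ^ 2 := (RingHom.ker aug.toRingHom).cotangentToQuotientSquare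
  let α : M →ₗ[B] (RingHom.ker aug.toRingHom).Cotangent := ((RingHom.ker aug.toRingHom).cotangentEquivIdeal.symm.toLinearMap.restrictScalars B) ∘ₗ
    { toFun := fun x => (⟨r x.1, hr x.1 x.2⟩ : (RingHom.ker aug.toRingHom).cotangentIdeal)
      map_add' := fun x y => Subtype.ext (map_add r _ _)
      map_smul' := fun s x => Subtype.ext (map_smul r s x.1) }
  have hcα : ∀ x : M, c (α x) = r x.1 := by
    intro x
    show (RingHom.ker aug.toRingHom).cotangentToQuotientSquare ((RingHom.ker aug.toRingHom).cotangentEquivIdeal.symm ⟨r x.1, hr x.1 x.2⟩) = r x.1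
    rw [← Ideal.cotangentEquivIdeal_apply, LinearEquiv.apply_symm_apply]
  let ι : Bg ⊗[B] M →ₗ[Bg] Bg ⊗[B] D := M.subtype.baseChange Bg
  have hι : Function.Injective ι :=
    Module.Flat.lTensor_preserves_injective_linearMap _ Subtype.val_injective
  let θ : (RingHom.ker aug.toRingHom).Cotangent →ₗ[Bg] Bg ⊗[B] D := τ.toLinearMap ∘ₗ c.restrictScalars Bg
  have hθ : ∀ y, θ y ∈ LinearMap.range ι := by
    intro y
    obtain ⟨y, rfl⟩ := (RingHom.ker aug.toRingHom).toCotangent_surjective y
    have h0 : qD (θ ((RingHom.ker aug.toRingHom).toCotangent y)) = 0 := (hτ y.1).trans y.2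
    have hex : Function.Exact (M.subtype.lTensor Bg) (pD.toLinearMap.lTensor Bg) :=
      Module.Flat.lTensor_exact _ (LinearMap.exact_subtype_ker_map _)
    have hq : ∀ z, TensorProduct.rid B Bg (pD.toLinearMap.lTensor Bg z) = qD z := by
      intro z
      induction z with
      | zero => simp
      | tmul b d =>
        have hb : qD (b ⊗ₜ[B] d) = b * algebraMap B Bg (pD d) := by
          rw [← hqD, ← smul_eq_mul b, ← map_smul, smul_tmul', smul_eq_mul, mul_one]
        simp [hb, Algebra.smul_def, mul_comm]
      | add a b ha hb => simp only [map_add, ha, hb]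
    exact (hex _).1 ((TensorProduct.rid B Bg).injective ((hq _).trans (h0.trans (map_zero _).symm)))
  let e := LinearEquiv.ofInjective ι hι
  let β : (RingHom.ker aug.toRingHom).Cotangent →ₗ[Bg] Bg ⊗[B] M := e.symm.toLinearMap ∘ₗ θ.codRestrict _ hθ
  refine Module.Projective.of_split (M := (RingHom.ker aug.toRingHom).Cotangent) (LinearMap.liftBaseChange Bg α) β ?_
  refine TensorProduct.AlgebraTensorModule.ext fun b x => ?_
  apply hι
  show ι (β (b • α x)) = ι (b ⊗ₜ x)
  rw [map_smul, map_smul, show ι (β (α x)) = θ (α x) from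
    congrArg Subtype.val (e.apply_symm_apply ⟨_, hθ (α x)⟩)]
  show b • τ (c (α x)) = _
  rw [hcα, hτr]
  simp [ι, smul_tmul']

/-- Projectivity is local on the spectrum. -/
theorem projective_of_localizations {B : Type u} [CommRing B] {M : Type u} [AddCommGroup M]
    [Module B M] {ι : Type u} [Fintype ι] (h : ι → B) (hspan : Ideal.span (Set.range h) = ⊤)
    (hproj : ∀ i, Module.Projective (Localization.Away (h i)) (Localization.Away (h i) ⊗[B] M)) :
    Module.Projective B M := by
  classical
  let Bi := fun i => Localization.Away (h i)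
  let Ni := fun i => Bi i ⊗[B] M
  haveI : Module.Flat B (∀ i, Bi i) :=
    Module.Flat.of_linearEquiv (DirectSum.linearEquivFunOnFintype B ι Bi).symm
  haveI : Module.FaithfullyFlat B (∀ i, Bi i) := by
    refine Module.FaithfullyFlat.of_comap_surjective fun P => ?_
    obtain ⟨i, hi⟩ : ∃ i, h i ∉ P.asIdeal := by
      by_contra hc
      push_neg at hc
      exact P.2.ne_top (top_le_iff.1 (hspan ▸ Ideal.span_le.2 (Set.range_subset_iff.2 hc)))
    obtain ⟨Q, hQ⟩ : P ∈ Set.range (PrimeSpectrum.comap (algebraMap B (Bi i))) := by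
      rw [PrimeSpectrum.localization_away_comap_range (Bi i) (h i)]
      exact hi
    exact ⟨PrimeSpectrum.comap (Pi.evalRingHom Bi i) Q, hQ⟩
  choose s hs using fun i => Module.projective_def'.1 (hproj i)
  let F := (Σ i, Ni i) →₀ ∀ i, Bi i
  let Φ : F →ₗ[∀ i, Bi i] ∀ i, Ni i :=
    Finsupp.linearCombination _ fun z : Σ i, Ni i => Pi.single z.1 z.2
  let Ψi : ∀ i, (Ni i →₀ Bi i) → F := fun i v =>
    v.sum fun n c => Finsupp.single ⟨i, n⟩ (Pi.single i c)
  let Ψ : (∀ i, Ni i) →ₗ[∀ i, Bi i] F :=
    { toFun := fun x => ∑ i, Ψi i (s i (x i))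
      map_add' := fun x y => by
        rw [← Finset.sum_add_distrib]
        refine Finset.sum_congr rfl fun i _ => ?_
        show Ψi i (s i (x i + y i)) = _
        rw [map_add]
        exact Finsupp.sum_add_index' (by simp) (by simp [Pi.single_add, Finsupp.single_add])
      map_smul' := fun c x => by
        rw [RingHom.id_apply, Finset.smul_sum]
        refine Finset.sum_congr rfl fun i _ => ?_
        show Ψi i (s i (c i • x i)) = _
        rw [map_smul]
        simp only [Ψi]
        rw [Finsupp.sum_smul_index' (by simp), Finsupp.smul_sum]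
        refine Finset.sum_congr rfl fun n _ => ?_
        dsimp only
        rw [Finsupp.smul_single]
        congr 1
        funext j
        by_cases hj : j = i
        · subst hj; simp
        · simp [hj] }
  have hP : Module.Projective (∀ i, Bi i) (∀ i, Ni i) := by
    refine Module.Projective.of_split Ψ Φ (LinearMap.ext fun x => ?_)
    show Φ (∑ i, Ψi i (s i (x i))) = x
    rw [map_sum]
    conv_rhs => rw [← Finset.univ_sum_single x]
    refine Finset.sum_congr rfl fun i _ => ?_
    have hx : Finsupp.linearCombination (Bi i) id (s i (x i)) = x i := congr($(hs i) (x i))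
    conv_rhs => rw [← hx]
    simp only [Ψi, Φ, map_finsuppSum, Finsupp.linearCombination_single,
      Finsupp.linearCombination_apply, id]
    rw [show Pi.single i ((s i (x i)).sum fun n c => c • n) =
        (s i (x i)).sum fun n c => (Pi.single i (c • n) : ∀ j, Ni j) from
      map_finsuppSum (AddMonoidHom.single Ni i) _ _]
    refine Finset.sum_congr rfl fun n _ => ?_
    funext j
    dsimp only
    rw [Finsupp.linearCombination_single]
    rw [Pi.smul_apply']
    by_cases hj : j = i
    · subst hj; simp
    · simp [hj]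
  let e : (∀ i, Bi i) ⊗[B] M ≃ₗ[∀ i, Bi i] ∀ i, Ni i :=
    { TensorProduct.piLeft B M Bi with
      map_smul' := fun c z => by
        show TensorProduct.piLeft B M Bi (c • z) = c • TensorProduct.piLeft B M Bi z
        induction z with
        | zero => simp
        | tmul v m =>
          funext i
          simp [smul_tmul']
        | add a b ha hb => simp only [smul_add, map_add, ha, hb] }
  haveI := hP
  haveI : Module.Projective (∀ i, Bi i) ((∀ i, Bi i) ⊗[B] M) :=
    Module.Projective.of_equiv' e.symm
  exact Groth.MLMod.projective_descent (S := ∀ i, Bi i)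

end Groth.FSmooth
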