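import Groth.Agent.FSmooth.Thick
import Groth.Agent.FSmooth.Algebra

/-!
# Formally smooth morphisms: from affine charts to the global lifting property
-/

set_option autoImplicit false

universe u

open CategoryTheory CategoryTheory.Limits AlgebraicGeometry TensorProduct

namespace Groth.FSmooth

section awayMap

variable {A : Type u} [CommRing A] (I : Ideal A)

/-- `A_g → (A ⧸ I)_g`. -/
noncomputable def πg (g : A) :
    Localization.Away g →ₐ[A] Localization.Away (Ideal.Quotient.mk I g) :=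
  IsLocalization.liftAlgHom (M := Submonoid.powers g)
    (f := Algebra.ofId A (Localization.Away (Ideal.Quotient.mk I g))) <| by
    rintro ⟨_, n, rfl⟩
    rw [Algebra.ofId_apply, map_pow,
      IsScalarTower.algebraMap_apply A (A ⧸ I) (Localization.Away (Ideal.Quotient.mk I g))]
    exact (IsLocalization.Away.algebraMap_isUnit (Ideal.Quotient.mk I g)).pow n

lemma πg_surjective (g : A) : Function.Surjective (πg I g) := by
  intro z
  obtain ⟨⟨y, ⟨_, n, rfl⟩⟩, h⟩ := IsLocalization.surj (Submonoid.powers (Ideal.Quotient.mk I g)) z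
  obtain ⟨x, rfl⟩ := Ideal.Quotient.mk_surjective y
  refine ⟨IsLocalization.mk' _ x (⟨g ^ n, n, rfl⟩ : Submonoid.powers g), ?_⟩
  have hu : IsUnit (algebraMap A (Localization.Away (Ideal.Quotient.mk I g)) (g ^ n)) := by
    rw [map_pow, IsScalarTower.algebraMap_apply A (A ⧸ I) (Localization.Away (Ideal.Quotient.mk I g))]
    exact (IsLocalization.Away.algebraMap_isUnit (Ideal.Quotient.mk I g)).pow n
  apply hu.mul_left_inj.1
  rw [← (πg I g).commutes (g ^ n), ← map_mul]
  have := IsLocalization.mk'_spec (Localization.Away g) x (⟨g ^ n, n, rfl⟩ : Submonoid.powers g)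
  rw [this, (πg I g).commutes, (πg I g).commutes,
    IsScalarTower.algebraMap_apply A (A ⧸ I) (Localization.Away (Ideal.Quotient.mk I g)),
    IsScalarTower.algebraMap_apply A (A ⧸ I) (Localization.Away (Ideal.Quotient.mk I g)),
    Ideal.Quotient.algebraMap_eq, map_pow]
  exact h.symm

lemma πg_sq (hI : I ^ 2 = ⊥) (g : A) (x y : Localization.Away g) (hx : πg I g x = 0)
    (hy : πg I g y = 0) : x * y = 0 := by
  have key : ∀ z, πg I g z = 0 → ∃ (v : A) (t : A), v ∈ I ∧
      IsUnit (algebraMap A (Localization.Away g) t) ∧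
      z * algebraMap A _ t = algebraMap A _ v := by
    intro z hz
    obtain ⟨⟨u, ⟨_, n, rfl⟩⟩, h⟩ := IsLocalization.surj (Submonoid.powers g) z
    have h0 := congrArg (πg I g) h
    rw [map_mul, hz, zero_mul, (πg I g).commutes,
      IsScalarTower.algebraMap_apply A (A ⧸ I) (Localization.Away (Ideal.Quotient.mk I g))] at h0
    obtain ⟨⟨_, m, rfl⟩, hm⟩ :=
      (IsLocalization.map_eq_zero_iff (Submonoid.powers (Ideal.Quotient.mk I g)) _ _).1 h0.symm
    refine ⟨g ^ m * u, g ^ m * g ^ n, ?_, ?_, ?_⟩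
    · rw [← Ideal.Quotient.eq_zero_iff_mem, map_mul, map_pow]
      exact hm
    · rw [← pow_add, map_pow]
      exact (IsLocalization.Away.algebraMap_isUnit g).pow _
    · dsimp only at h
      rw [map_mul, map_mul, ← h]
      ring
  obtain ⟨v, t, hv, ht, hxv⟩ := key x hx
  obtain ⟨v', t', hv', ht', hyv⟩ := key y hy
  have h0 : v * v' = 0 := by
    rw [← Ideal.mem_bot, ← hI, pow_two]
    exact Ideal.mul_mem_mul hv hv'
  apply (ht.mul ht').mul_left_inj.1
  rw [zero_mul, mul_mul_mul_comm, hxv, hyv, ← map_mul, h0, map_zero]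

end awayMap

variable {X Y : Scheme.{u}} {f : X ⟶ Y} {A : Type u} [CommRing A] {I : Ideal A}
  {a : Spec (CommRingCat.of (A ⧸ I)) ⟶ X} {b : Spec (CommRingCat.of A) ⟶ Y}

/-- The first order neighbourhood ring with its universal property. -/
structure Nbhd (f : X ⟶ Y) (I : Ideal A) (a : Spec (CommRingCat.of (A ⧸ I)) ⟶ X)
    (b : Spec (CommRingCat.of A) ⟶ Y) where
  C : Type u
  [ringC : CommRing C]
  [algC : Algebra A C]
  p : C →ₐ[A] A ⧸ I
  ξ : Spec (CommRingCat.of C) ⟶ X
  surj : Function.Surjective p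
  sq : ∀ x y, p x = 0 → p y = 0 → x * y = 0
  comp_f : ξ ≫ f = Spec.map (CommRingCat.ofHom (algebraMap A C)) ≫ b
  comp_p : Spec.map (CommRingCat.ofHom p.toRingHom) ≫ ξ = a
  lift : ∀ (E : Type u) [CommRing E] [Algebra A E] (B' : Type u) [CommRing B'] [Algebra A B']
      (π : E →ₐ[A] B'), Function.Surjective π → (∀ x y, π x = 0 → π y = 0 → x * y = 0) →
      ∀ (β : A ⧸ I →ₐ[A] B') (l : Spec (CommRingCat.of E) ⟶ X),
        l ≫ f = Spec.map (CommRingCat.ofHom (algebraMap A E)) ≫ b →
        Spec.map (CommRingCat.ofHom π.toRingHom) ≫ l =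
          Spec.map (CommRingCat.ofHom β.toRingHom) ≫ a →
        ∃ r : C →ₐ[A] E, π.comp r = β.comp p ∧
          Spec.map (CommRingCat.ofHom r.toRingHom) ≫ ξ = l
  ext : ∀ (E : Type u) [CommRing E] [Algebra A E] (r r' : C →ₐ[A] E),
      Spec.map (CommRingCat.ofHom r.toRingHom) ≫ ξ =
        Spec.map (CommRingCat.ofHom r'.toRingHom) ≫ ξ → r = r'

attribute [instance] Nbhd.ringC Nbhd.algC

/-- Affine charts around the image of `D(g)`. -/
structure Chart (f : X ⟶ Y) (I : Ideal A) (a : Spec (CommRingCat.of (A ⧸ I)) ⟶ X)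
    (b : Spec (CommRingCat.of A) ⟶ Y) (g : A) where
  U : X.Opens
  V : Y.Opens
  hU : IsAffineOpen U
  hV : IsAffineOpen V
  hUV : U ≤ f ⁻¹ᵁ V
  ψR : Γ(Y, V) ⟶ CommRingCat.of (Localization.Away g)
  ψS : Γ(X, U) ⟶ CommRingCat.of (Localization.Away (Ideal.Quotient.mk I g))
  hψR : Spec.map ψR ≫ hV.fromSpec =
    Spec.map (CommRingCat.ofHom (algebraMap A (Localization.Away g))) ≫ b
  hψS : Spec.map ψS ≫ hU.fromSpec =
    Spec.map (CommRingCat.ofHom
      (algebraMap (A ⧸ I) (Localization.Away (Ideal.Quotient.mk I g)))) ≫ a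

variable (w : Spec.map (CommRingCat.ofHom (Ideal.Quotient.mk I)) ≫ b = a ≫ f)

include w in
/-- Charts exist near every point. -/
lemma exists_chart (hI : I ^ 2 = ⊥) (P : PrimeSpectrum A) :
    ∃ g, g ∉ P.asIdeal ∧ Nonempty (Chart f I a b g) := by
  let i : Spec (.of (A ⧸ I)) ⟶ Spec (.of A) :=
    Spec.map (CommRingCat.ofHom (Ideal.Quotient.mk I))
  haveI : IsClosedImmersion i := IsClosedImmersion.spec_of_surjective _ Ideal.Quotient.mk_surjective
  obtain ⟨t, ht⟩ := surjective_SpecMap (Ideal.Quotient.mk I) Ideal.Quotient.mk_surjective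
    (fun x y hx hy => by
      rw [← Ideal.mem_bot, ← hI, pow_two]
      exact Ideal.mul_mem_mul (Ideal.Quotient.eq_zero_iff_mem.1 hx)
        (Ideal.Quotient.eq_zero_iff_mem.1 hy)) P
  have hfa : f (a t) = b P := by
    rw [← ht, ← Scheme.Hom.comp_apply, ← Scheme.Hom.comp_apply, w]
  obtain ⟨_, ⟨V, hV, rfl⟩, hPV, -⟩ :=
    Y.isBasis_affineOpens.exists_subset_of_mem_open (Set.mem_univ (b P)) isOpen_univ
  obtain ⟨_, ⟨U, hU, rfl⟩, htU, hUV⟩ := X.isBasis_affineOpens.exists_subset_of_mem_open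
    (show a t ∈ f ⁻¹ᵁ V by rw [Scheme.Hom.mem_preimage, hfa]; exact hPV) (f ⁻¹ᵁ V).2
  obtain ⟨O, hO, hOU⟩ := i.isClosedEmbedding.isInducing.isOpen_iff.1 (a ⁻¹ᵁ U).2
  have hPO : P ∈ O := by
    rw [← ht]
    show t ∈ i ⁻¹' O
    rw [hOU]
    exact htU
  obtain ⟨_, ⟨g, rfl⟩, hgP, hg⟩ := PrimeSpectrum.isTopologicalBasis_basic_opens.exists_subset_of_mem_open
    (show P ∈ O ∩ (b ⁻¹ᵁ V).1 from ⟨hPO, hPV⟩) (hO.inter (b ⁻¹ᵁ V).2)
  refine ⟨g, hgP, ?_⟩
  have hR : Set.range (Spec.map (CommRingCat.ofHom (algebraMap A (Localization.Away g))) ≫ b) ⊆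
      Set.range hV.fromSpec := by
    rw [hV.range_fromSpec]
    rintro _ ⟨z, rfl⟩
    rw [Scheme.Hom.comp_apply]
    have hz : PrimeSpectrum.comap (algebraMap A (Localization.Away g)) z ∈
        PrimeSpectrum.basicOpen g := by
      rw [← SetLike.mem_coe, ← PrimeSpectrum.localization_away_comap_range (Localization.Away g) g]
      exact ⟨z, rfl⟩
    exact (hg hz).2
  have hS : Set.range (Spec.map (CommRingCat.ofHom
      (algebraMap (A ⧸ I) (Localization.Away (Ideal.Quotient.mk I g)))) ≫ a) ⊆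
      Set.range hU.fromSpec := by
    rw [hU.range_fromSpec]
    rintro _ ⟨z, rfl⟩
    rw [Scheme.Hom.comp_apply]
    let z' : PrimeSpectrum (A ⧸ I) :=
      PrimeSpectrum.comap (algebraMap (A ⧸ I) (Localization.Away (Ideal.Quotient.mk I g))) z
    have hz : z' ∈ PrimeSpectrum.basicOpen (Ideal.Quotient.mk I g) := by
      rw [← SetLike.mem_coe, ← PrimeSpectrum.localization_away_comap_range
        (Localization.Away (Ideal.Quotient.mk I g)) (Ideal.Quotient.mk I g)]
      exact ⟨z, rfl⟩
    have hz' : z' ∈ i ⁻¹' O := (hg (show PrimeSpectrum.comap (Ideal.Quotient.mk I) z' ∈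
      PrimeSpectrum.basicOpen g from hz)).1
    rw [hOU] at hz'
    exact hz'
  exact ⟨{ U := U, V := V, hU := hU, hV := hV, hUV := hUV
           ψR := Spec.preimage (IsOpenImmersion.lift hV.fromSpec _ hR)
           ψS := Spec.preimage (IsOpenImmersion.lift hU.fromSpec _ hS)
           hψR := by rw [Spec.map_preimage, IsOpenImmersion.lift_fac]
           hψS := by rw [Spec.map_preimage, IsOpenImmersion.lift_fac] }⟩

namespace Chart

variable {g : A} (c : Chart f I a b g)

include w in
lemma compat :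
    c.ψR ≫ CommRingCat.ofHom (πg I g).toRingHom = f.appLE c.V c.U c.hUV ≫ c.ψS := by
  apply Spec.map_injective
  rw [← cancel_mono c.hV.fromSpec, Spec.map_comp, Spec.map_comp, Category.assoc, Category.assoc,
    IsAffineOpen.SpecMap_appLE_fromSpec f c.hV c.hU c.hUV, c.hψR, reassoc_of% c.hψS, ← w,
    ← Spec.map_comp_assoc, ← Spec.map_comp_assoc, ← CommRingCat.ofHom_comp, ← CommRingCat.ofHom_comp]
  congr 3
  ext r
  exact (πg I g).commutes r

include w in
/-- A local lift. -/
lemma exists_lift (hI : I ^ 2 = ⊥) (N : Nbhd f I a b)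
    (hs : letI := (f.appLE c.V c.U c.hUV).hom.toAlgebra
      Algebra.FormallySmooth Γ(Y, c.V) Γ(X, c.U)) :
    ∃ r : N.C →ₐ[A] Localization.Away g, (πg I g).comp r =
      (IsScalarTower.toAlgHom A (A ⧸ I) (Localization.Away (Ideal.Quotient.mk I g))).comp N.p := by
  letI := (f.appLE c.V c.U c.hUV).hom.toAlgebra
  letI : Algebra Γ(Y, c.V) (Localization.Away g) := c.ψR.hom.toAlgebra
  letI : Algebra Γ(Y, c.V) (Localization.Away (Ideal.Quotient.mk I g)) :=
    ((πg I g).toRingHom.comp c.ψR.hom).toAlgebra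
  let π' : Localization.Away g →ₐ[Γ(Y, c.V)] Localization.Away (Ideal.Quotient.mk I g) :=
    { (πg I g).toRingHom with commutes' := fun _ => rfl }
  let s : Γ(X, c.U) →ₐ[Γ(Y, c.V)] Localization.Away (Ideal.Quotient.mk I g) :=
    { c.ψS.hom with commutes' := fun r => (congr($(c.compat w) r)).symm }
  have hnil : IsNilpotent (RingHom.ker π'.toRingHom) := by
    refine ⟨2, ?_⟩
    rw [Ideal.zero_eq_bot, eq_bot_iff, pow_two, Ideal.mul_le]
    exact fun x hx y hy => (Submodule.mem_bot _).2 (πg_sq I hI g x y hx hy)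
  let σ := Algebra.FormallySmooth.liftOfSurjective s π' (πg_surjective I g) hnil
  have hex := N.lift (Localization.Away g) (Localization.Away (Ideal.Quotient.mk I g))
    (πg I g) (πg_surjective I g) (πg_sq I hI g)
    (IsScalarTower.toAlgHom A (A ⧸ I) (Localization.Away (Ideal.Quotient.mk I g)))
    (Spec.map (CommRingCat.ofHom σ.toRingHom) ≫ c.hU.fromSpec)
  have h1 : f.appLE c.V c.U c.hUV ≫ CommRingCat.ofHom σ.toRingHom = c.ψR := by
    ext r
    exact σ.commutes r
  have h2 : CommRingCat.ofHom σ.toRingHom ≫ CommRingCat.ofHom (πg I g).toRingHom = c.ψS := by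
    ext z
    exact Algebra.FormallySmooth.liftOfSurjective_apply s π' (πg_surjective I g) hnil z
  obtain ⟨r, hr, -⟩ := hex
    (by rw [Category.assoc, ← IsAffineOpen.SpecMap_appLE_fromSpec f c.hV c.hU c.hUV,
      ← Spec.map_comp_assoc, h1, c.hψR])
    (by rw [← Spec.map_comp_assoc, h2]; exact c.hψS)
  exact ⟨r, hr⟩

end Chart

/-- The conormal module of the section, as a submodule of the neighbourhood over `A ⧸ I`. -/
noncomputable def Nbhd.pD (N : Nbhd f I a b) :
    N.C ⧸ I.map (algebraMap A N.C) →ₐ[A ⧸ I] A ⧸ I :=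
  { Ideal.Quotient.lift _ N.p.toRingHom (by
      intro x hx
      have hle : I.map (algebraMap A N.C) ≤ RingHom.ker N.p.toRingHom :=
        Ideal.map_le_iff_le_comap.2 fun i hi =>
          (N.p.commutes i).trans (Ideal.Quotient.eq_zero_iff_mem.2 hi)
      exact hle hx) with
    commutes' := fun r => by
      obtain ⟨r, rfl⟩ := Ideal.Quotient.mk_surjective r
      exact N.p.commutes r }

lemma Nbhd.pD_mk (N : Nbhd f I a b) (x : N.C) : N.pD (Ideal.Quotient.mk _ x) = N.p x := rfl

include w in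
/-- The local projectivity of the conormal module. -/
lemma Chart.projective {g : A} (c : Chart f I a b g) (N : Nbhd f I a b)
    (hs : letI := (f.appLE c.V c.U c.hUV).hom.toAlgebra
      Algebra.FormallySmooth Γ(Y, c.V) Γ(X, c.U)) :
    Module.Projective (Localization.Away (Ideal.Quotient.mk I g))
      (Localization.Away (Ideal.Quotient.mk I g) ⊗[A ⧸ I] LinearMap.ker N.pD.toLinearMap) := by
  let D := N.C ⧸ I.map (algebraMap A N.C)
  letI := (f.appLE c.V c.U c.hUV).hom.toAlgebra
  letI : Algebra Γ(Y, c.V) (Localization.Away (Ideal.Quotient.mk I g)) := ((πg I g).toRingHom.comp c.ψR.hom).toAlgebra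
  haveI : SMulCommClass Γ(Y, c.V) A (Localization.Away (Ideal.Quotient.mk I g)) :=
    ⟨fun r s x => by simp only [Algebra.smul_def]; exact mul_left_comm _ _ _⟩
  haveI : SMulCommClass Γ(Y, c.V) (A ⧸ I) (Localization.Away (Ideal.Quotient.mk I g)) :=
    ⟨fun r s x => by simp only [Algebra.smul_def]; exact mul_left_comm _ _ _⟩
  let T := (Localization.Away (Ideal.Quotient.mk I g)) ⊗[Γ(Y, c.V)] Γ(X, c.U)
  let s : Γ(X, c.U) →ₐ[Γ(Y, c.V)] (Localization.Away (Ideal.Quotient.mk I g)) :=
    { c.ψS.hom with commutes' := fun r => (congr($(c.compat w) r)).symm }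
  let aug : T →ₐ[(Localization.Away (Ideal.Quotient.mk I g))] (Localization.Away (Ideal.Quotient.mk I g)) := Algebra.TensorProduct.lift (AlgHom.id (Localization.Away (Ideal.Quotient.mk I g)) (Localization.Away (Ideal.Quotient.mk I g))) s fun _ _ => Commute.all _ _
  let J := RingHom.ker aug.toRingHom
  have haug1 : ∀ z, aug (1 ⊗ₜ z) = c.ψS z := fun z =>
    (Algebra.TensorProduct.lift_tmul _ _ _ _ _).trans (one_mul _)
  -- the map from the neighbourhood
  haveI : IsScalarTower A (A ⧸ I) T := TensorProduct.isScalarTower_left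
  haveI : IsScalarTower (A ⧸ I) (Localization.Away (Ideal.Quotient.mk I g)) T := TensorProduct.isScalarTower_left
  haveI : IsScalarTower A (Localization.Away (Ideal.Quotient.mk I g)) T := TensorProduct.isScalarTower_left
  let augA : T ⧸ J ^ 2 →ₐ[A] (Localization.Away (Ideal.Quotient.mk I g)) :=
    Ideal.Quotient.liftₐ _ (aug.restrictScalars A) fun x hx => Ideal.pow_le_self two_ne_zero hx
  have haugA : ∀ t, augA (Ideal.Quotient.mk _ t) = aug t := fun _ => rfl
  have haugs : Function.Surjective augA := fun z =>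
    ⟨Ideal.Quotient.mk _ (algebraMap (Localization.Away (Ideal.Quotient.mk I g)) T z), (haugA _).trans (aug.commutes z)⟩
  have haugsq : ∀ x y, augA x = 0 → augA y = 0 → x * y = 0 := by
    intro x y hx hy
    obtain ⟨x, rfl⟩ := Ideal.Quotient.mk_surjective x
    obtain ⟨y, rfl⟩ := Ideal.Quotient.mk_surjective y
    rw [← map_mul, Ideal.Quotient.eq_zero_iff_mem, pow_two]
    exact Ideal.mul_mem_mul hx hy
  let inS : Γ(X, c.U) →+* T ⧸ J ^ 2 :=
    (Ideal.Quotient.mk _).comp (Algebra.TensorProduct.includeRight : Γ(X, c.U) →ₐ[Γ(Y, c.V)] T).toRingHom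
  obtain ⟨r, hr, hrl⟩ := N.lift (T ⧸ J ^ 2) (Localization.Away (Ideal.Quotient.mk I g)) augA haugs haugsq (IsScalarTower.toAlgHom A (A ⧸ I) (Localization.Away (Ideal.Quotient.mk I g)))
    (Spec.map (CommRingCat.ofHom inS) ≫ c.hU.fromSpec) (by
      have h : f.appLE c.V c.U c.hUV ≫ CommRingCat.ofHom inS = c.ψR ≫
          CommRingCat.ofHom ((algebraMap (Localization.Away (Ideal.Quotient.mk I g)) (T ⧸ J ^ 2)).comp (πg I g).toRingHom) := by
        ext z
        show Ideal.Quotient.mk _ ((1 : (Localization.Away (Ideal.Quotient.mk I g))) ⊗ₜ[Γ(Y, c.V)] algebraMap Γ(Y, c.V) Γ(X, c.U) z) =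
          Ideal.Quotient.mk _ (algebraMap (Localization.Away (Ideal.Quotient.mk I g)) T (algebraMap Γ(Y, c.V) (Localization.Away (Ideal.Quotient.mk I g)) z))
        congr 1
        rw [Algebra.algebraMap_eq_smul_one z (A := Γ(X, c.U)), tmul_smul, smul_tmul',
          ← Algebra.algebraMap_eq_smul_one]
        rfl
      rw [Category.assoc, ← IsAffineOpen.SpecMap_appLE_fromSpec f c.hV c.hU c.hUV,
        ← Spec.map_comp_assoc, h, Spec.map_comp, Category.assoc, c.hψR, ← Spec.map_comp_assoc,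
        ← CommRingCat.ofHom_comp]
      congr 3
      ext z
      show algebraMap (Localization.Away (Ideal.Quotient.mk I g)) (T ⧸ J ^ 2) (πg I g (algebraMap A _ z)) = _
      rw [(πg I g).commutes, ← IsScalarTower.algebraMap_apply]) (by
      have h : CommRingCat.ofHom inS ≫ CommRingCat.ofHom (R := T ⧸ J ^ 2) (S := Localization.Away (Ideal.Quotient.mk I g)) augA.toRingHom = c.ψS := by
        ext z
        exact haug1 z
      rw [← Spec.map_comp_assoc, h]
      exact c.hψS)
  let rD : D →ₐ[(A ⧸ I)] T ⧸ J ^ 2 :=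
    { Ideal.Quotient.lift _ r.toRingHom (by
        intro x hx
        have hle : I.map (algebraMap A N.C) ≤ RingHom.ker r.toRingHom :=
          Ideal.map_le_iff_le_comap.2 fun i hi => by
            show r (algebraMap A N.C i) = 0
            rw [r.commutes, IsScalarTower.algebraMap_apply A (A ⧸ I) (T ⧸ J ^ 2),
              Ideal.Quotient.algebraMap_eq, Ideal.Quotient.eq_zero_iff_mem.2 hi, map_zero]
        exact hle hx) with
      commutes' := fun z => by
        obtain ⟨z, rfl⟩ := Ideal.Quotient.mk_surjective z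
        exact (r.commutes z).trans (IsScalarTower.algebraMap_apply A (A ⧸ I) (T ⧸ J ^ 2) z) }
  -- the base change of the neighbourhood
  haveI : SMulCommClass (A ⧸ I) A (Localization.Away (Ideal.Quotient.mk I g)) :=
    ⟨fun r s x => by simp only [Algebra.smul_def]; exact mul_left_comm _ _ _⟩
  haveI : IsScalarTower A (Localization.Away (Ideal.Quotient.mk I g))
      ((Localization.Away (Ideal.Quotient.mk I g)) ⊗[A ⧸ I] D) := TensorProduct.isScalarTower_left
  let can : N.C →ₐ[A] (Localization.Away (Ideal.Quotient.mk I g)) ⊗[(A ⧸ I)] D :=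
    { ((Algebra.TensorProduct.includeRight : D →ₐ[(A ⧸ I)] (Localization.Away (Ideal.Quotient.mk I g)) ⊗[(A ⧸ I)] D).toRingHom.comp
        (Ideal.Quotient.mk _)) with
      commutes' := fun z => by
        show (1 : (Localization.Away (Ideal.Quotient.mk I g))) ⊗ₜ[(A ⧸ I)] algebraMap A D z = algebraMap A ((Localization.Away (Ideal.Quotient.mk I g)) ⊗[(A ⧸ I)] D) z
        rw [Algebra.TensorProduct.algebraMap_apply, IsScalarTower.algebraMap_apply A (A ⧸ I) D,
          Algebra.algebraMap_eq_smul_one (A := D), tmul_smul, smul_tmul',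
          ← Algebra.algebraMap_eq_smul_one, ← IsScalarTower.algebraMap_apply] }
  let qD : (Localization.Away (Ideal.Quotient.mk I g)) ⊗[(A ⧸ I)] D →ₐ[(Localization.Away (Ideal.Quotient.mk I g))] (Localization.Away (Ideal.Quotient.mk I g)) :=
    Algebra.TensorProduct.lift (AlgHom.id (Localization.Away (Ideal.Quotient.mk I g)) (Localization.Away (Ideal.Quotient.mk I g))) ((Algebra.ofId (A ⧸ I) (Localization.Away (Ideal.Quotient.mk I g))).comp N.pD)
      fun _ _ => Commute.all _ _
  have hqD : ∀ d, qD (1 ⊗ₜ d) = algebraMap (A ⧸ I) (Localization.Away (Ideal.Quotient.mk I g)) (N.pD d) := fun d => by simp [qD, Algebra.ofId]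
  have hqs : Function.Surjective qD := fun z => ⟨algebraMap (Localization.Away (Ideal.Quotient.mk I g)) _ z, qD.commutes z⟩
  let M := LinearMap.ker N.pD.toLinearMap
  have hMsq : ∀ x ∈ M, ∀ y ∈ M, x * y = 0 := by
    intro x hx y hy
    obtain ⟨x, rfl⟩ := Ideal.Quotient.mk_surjective x
    obtain ⟨y, rfl⟩ := Ideal.Quotient.mk_surjective y
    rw [← map_mul, N.sq x y hx hy, map_zero]
  have hdec : ∀ z, ∃ m : (Localization.Away (Ideal.Quotient.mk I g)) ⊗[(A ⧸ I)] M, z = algebraMap (Localization.Away (Ideal.Quotient.mk I g)) _ (qD z) + M.subtype.baseChange (Localization.Away (Ideal.Quotient.mk I g)) m := by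
    intro z
    induction z with
    | zero => exact ⟨0, by simp⟩
    | tmul v d =>
      have hm : d - algebraMap (A ⧸ I) D (N.pD d) ∈ M := by
        show N.pD (d - algebraMap (A ⧸ I) D (N.pD d)) = 0
        rw [map_sub, N.pD.commutes]
        exact sub_self _
      refine ⟨v ⊗ₜ ⟨_, hm⟩, ?_⟩
      have hv : qD (v ⊗ₜ[(A ⧸ I)] d) = v * algebraMap (A ⧸ I) (Localization.Away (Ideal.Quotient.mk I g)) (N.pD d) := by
        rw [← hqD, ← smul_eq_mul v, ← map_smul, smul_tmul', smul_eq_mul, mul_one]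
      rw [hv, LinearMap.baseChange_tmul, Algebra.TensorProduct.algebraMap_apply, Submodule.subtype_apply,
        tmul_sub, Algebra.algebraMap_eq_smul_one (A := D), tmul_smul, smul_tmul',
        mul_comm v, ← Algebra.smul_def]
      simp
    | add x y hx hy =>
      obtain ⟨m, hm⟩ := hx
      obtain ⟨n, hn⟩ := hy
      refine ⟨m + n, ?_⟩
      conv_lhs => rw [hm, hn]
      rw [map_add, map_add, map_add]
      abel
  have hqsq : ∀ x y, qD x = 0 → qD y = 0 → x * y = 0 := by
    intro x y hx hy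
    obtain ⟨m, hm⟩ := hdec x
    obtain ⟨n, hn⟩ := hdec y
    rw [hx, map_zero, zero_add] at hm
    rw [hy, map_zero, zero_add] at hn
    rw [hm, hn]
    clear hm hn hx hy
    induction m with
    | zero => simp
    | tmul v m =>
      induction n with
      | zero => simp
      | tmul v' n =>
        rw [LinearMap.baseChange_tmul, LinearMap.baseChange_tmul,
          Algebra.TensorProduct.tmul_mul_tmul]
        show (v * v') ⊗ₜ[(A ⧸ I)] (m.1 * n.1) = 0
        rw [hMsq _ m.2 _ n.2, tmul_zero]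
      | add p q hp hq => rw [map_add, mul_add, hp, hq, add_zero]
    | add p q hp hq => rw [map_add, add_mul, hp, hq, add_zero]
  -- the chart contains the neighbourhood
  have hfac : Spec.map (CommRingCat.ofHom qD.toRingHom) ≫
      Spec.map (CommRingCat.ofHom can.toRingHom) ≫ N.ξ = Spec.map c.ψS ≫ c.hU.fromSpec := by
    rw [c.hψS]
    conv_rhs => rw [← N.comp_p]
    rw [← Spec.map_comp_assoc, ← Spec.map_comp_assoc]
    congr 2
    ext z
    exact hqD _
  have hrange : Set.range (Spec.map (CommRingCat.ofHom can.toRingHom) ≫ N.ξ) ⊆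
      Set.range c.hU.fromSpec := by
    rintro _ ⟨z, rfl⟩
    obtain ⟨z', rfl⟩ := surjective_SpecMap qD.toRingHom hqs hqsq z
    rw [← Scheme.Hom.comp_apply, hfac, Scheme.Hom.comp_apply]
    exact ⟨_, rfl⟩
  let sD : Γ(X, c.U) ⟶ CommRingCat.of ((Localization.Away (Ideal.Quotient.mk I g)) ⊗[(A ⧸ I)] D) :=
    Spec.preimage (IsOpenImmersion.lift c.hU.fromSpec _ hrange)
  have hsD : Spec.map sD ≫ c.hU.fromSpec = Spec.map (CommRingCat.ofHom can.toRingHom) ≫ N.ξ := by
    rw [Spec.map_preimage, IsOpenImmersion.lift_fac]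
  have hsDq : sD ≫ CommRingCat.ofHom qD.toRingHom = c.ψS := by
    apply Spec.map_injective
    rw [← cancel_mono c.hU.fromSpec, Spec.map_comp, Category.assoc, hsD, hfac]
  haveI : IsScalarTower Γ(Y, c.V) (Localization.Away (Ideal.Quotient.mk I g))
      ((Localization.Away (Ideal.Quotient.mk I g)) ⊗[A ⧸ I] D) := TensorProduct.isScalarTower_left
  let sDₐ : Γ(X, c.U) →ₐ[Γ(Y, c.V)] (Localization.Away (Ideal.Quotient.mk I g)) ⊗[(A ⧸ I)] D :=
    { sD.hom with
      commutes' := fun z => by
        have h : f.appLE c.V c.U c.hUV ≫ sD = c.ψR ≫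
            CommRingCat.ofHom ((algebraMap (Localization.Away (Ideal.Quotient.mk I g)) ((Localization.Away (Ideal.Quotient.mk I g)) ⊗[(A ⧸ I)] D)).comp (πg I g).toRingHom) := by
          apply Spec.map_injective
          rw [← cancel_mono c.hV.fromSpec, Spec.map_comp, Spec.map_comp, Category.assoc,
            Category.assoc, IsAffineOpen.SpecMap_appLE_fromSpec f c.hV c.hU c.hUV, c.hψR,
            reassoc_of% hsD, N.comp_f, ← Spec.map_comp_assoc, ← Spec.map_comp_assoc,
            ← CommRingCat.ofHom_comp, ← CommRingCat.ofHom_comp]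
          congr 3
          ext z
          show can (algebraMap A N.C z) = algebraMap (Localization.Away (Ideal.Quotient.mk I g)) ((Localization.Away (Ideal.Quotient.mk I g)) ⊗[(A ⧸ I)] D) (πg I g (algebraMap A _ z))
          rw [(πg I g).commutes, can.commutes, ← IsScalarTower.algebraMap_apply]
        refine (congr($h z)).trans ?_
        exact (IsScalarTower.algebraMap_apply Γ(Y, c.V) (Localization.Away (Ideal.Quotient.mk I g))
          ((Localization.Away (Ideal.Quotient.mk I g)) ⊗[A ⧸ I] D) z).symm }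
  let τ₀ : T →ₐ[(Localization.Away (Ideal.Quotient.mk I g))] (Localization.Away (Ideal.Quotient.mk I g)) ⊗[(A ⧸ I)] D :=
    Algebra.TensorProduct.lift (Algebra.ofId (Localization.Away (Ideal.Quotient.mk I g)) _) sDₐ fun _ _ => Commute.all _ _
  have hτ₀ : ∀ t, qD (τ₀ t) = aug t := by
    intro t
    induction t using TensorProduct.induction_on with
    | zero => simp
    | tmul v z =>
      have h : qD (sDₐ z) = c.ψS z := congr($hsDq z)
      have e1 : τ₀ (v ⊗ₜ z) = algebraMap (Localization.Away (Ideal.Quotient.mk I g)) _ v * sDₐ z :=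
        Algebra.TensorProduct.lift_tmul _ _ _ _ _
      have e2 : aug (v ⊗ₜ z) = v * s z := Algebra.TensorProduct.lift_tmul _ _ _ _ _
      rw [e1, e2, map_mul, qD.commutes, h]
      rfl
    | add x y hx hy => simp only [map_add, hx, hy]
  let τ : T ⧸ J ^ 2 →ₐ[(Localization.Away (Ideal.Quotient.mk I g))] (Localization.Away (Ideal.Quotient.mk I g)) ⊗[(A ⧸ I)] D := Ideal.Quotient.liftₐ _ τ₀ fun x hx => by
    rw [pow_two] at hx
    exact Submodule.mul_induction_on hx
      (fun p hp q hq => by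
        rw [map_mul]
        exact hqsq _ _ ((hτ₀ p).trans hp) ((hτ₀ q).trans hq))
      fun p q hp hq => by rw [map_add, hp, hq, add_zero]
  have hτr : ∀ x : N.C, τ (r x) = can x := by
    have h : (τ.restrictScalars A).comp r = can := by
      refine N.ext _ _ _ ?_
      have h1 : CommRingCat.ofHom inS ≫ CommRingCat.ofHom (R := T ⧸ J ^ 2) (S := (Localization.Away (Ideal.Quotient.mk I g)) ⊗[A ⧸ I] D) τ.toRingHom = sD := by
        ext z
        show τ₀ ((1 : (Localization.Away (Ideal.Quotient.mk I g))) ⊗ₜ z) = sD z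
        refine (Algebra.TensorProduct.lift_tmul _ _ _ _ _).trans ?_
        rw [map_one, one_mul]
        rfl
      rw [show CommRingCat.ofHom ((τ.restrictScalars A).comp r).toRingHom =
        CommRingCat.ofHom r.toRingHom ≫ CommRingCat.ofHom (R := T ⧸ J ^ 2) (S := (Localization.Away (Ideal.Quotient.mk I g)) ⊗[A ⧸ I] D) τ.toRingHom from rfl,
        Spec.map_comp, Category.assoc, hrl, ← Spec.map_comp_assoc, h1, hsD]
    exact fun x => congr($h x)
  refine projective_baseChange_of_factor aug N.pD qD hqD rD ?_ τ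
    (fun t => hτ₀ t) ?_
  · intro d hd
    obtain ⟨x, rfl⟩ := Ideal.Quotient.mk_surjective d
    obtain ⟨t, ht⟩ := Ideal.Quotient.mk_surjective (r x)
    have h0 : augA (r x) = algebraMap (A ⧸ I) (Localization.Away (Ideal.Quotient.mk I g)) (N.p x) := congr($hr x)
    rw [show N.p x = 0 from hd, map_zero, ← ht, haugA] at h0
    exact ⟨t, h0, ht⟩
  · intro d
    obtain ⟨x, rfl⟩ := Ideal.Quotient.mk_surjective d
    exact hτr x

/-- The global splitting. -/
theorem exists_retraction (N : Nbhd f I a b) {ι : Type u} [Fintype ι] (g : ι → A)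
    (hg : Ideal.span (Set.range fun i => Ideal.Quotient.mk I (g i)) = ⊤)
    (hloc : ∀ i, ∃ r : N.C →ₐ[A] Localization.Away (g i), (πg I (g i)).comp r =
      (IsScalarTower.toAlgHom A (A ⧸ I) (Localization.Away (Ideal.Quotient.mk I (g i)))).comp N.p)
    (hI : I ^ 2 = ⊥)
    (hproj : ∀ i, Module.Projective (Localization.Away (Ideal.Quotient.mk I (g i)))
      (Localization.Away (Ideal.Quotient.mk I (g i)) ⊗[A ⧸ I] LinearMap.ker N.pD.toLinearMap)) :
    ∃ r : N.C →ₐ[A] A, ∀ x, Ideal.Quotient.mk I (r x) = N.p x := by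
  haveI hMproj : Module.Projective (A ⧸ I) (LinearMap.ker N.pD.toLinearMap) :=
    projective_of_localizations _ hg hproj
  let M := LinearMap.ker N.pD.toLinearMap
  let K := LinearMap.ker N.p.toLinearMap
  -- `I → K` is injective
  have hinj : ∀ x ∈ I, algebraMap A N.C x = 0 → x = 0 := by
    intro x _ hx
    have hann : ∀ P : PrimeSpectrum A, ∃ t ∉ P.asIdeal, t * x = 0 := by
      intro P
      obtain ⟨i, hi⟩ : ∃ i, g i ∉ P.asIdeal := by
        by_contra hc
        push_neg at hc
        have hIP : I ≤ P.asIdeal := fun y hy => by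
          have : y * y = 0 := by
            rw [← Ideal.mem_bot, ← hI, pow_two]
            exact Ideal.mul_mem_mul hy hy
          exact (P.2.mem_or_mem (this ▸ P.asIdeal.zero_mem)).elim id id
        have h1 : (⊤ : Ideal (A ⧸ I)) ≤ P.asIdeal.map (Ideal.Quotient.mk I) := by
          rw [← hg, Ideal.span_le]
          rintro _ ⟨i, rfl⟩
          exact Ideal.mem_map_of_mem _ (hc i)
        refine P.2.ne_top (top_le_iff.1 fun y _ => ?_)
        have h2 : y ∈ (P.asIdeal.map (Ideal.Quotient.mk I)).comap (Ideal.Quotient.mk I) :=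
          h1 Submodule.mem_top
        rw [Ideal.comap_map_of_surjective _ Ideal.Quotient.mk_surjective, ← RingHom.ker_eq_comap_bot,
          Ideal.mk_ker, sup_eq_left.2 hIP] at h2
        exact h2
      obtain ⟨r, -⟩ := hloc i
      have h0 : algebraMap A (Localization.Away (g i)) x = 0 := by
        rw [← r.commutes, hx, map_zero]
      obtain ⟨⟨_, n, rfl⟩, hn⟩ :=
        (IsLocalization.map_eq_zero_iff (Submonoid.powers (g i)) _ _).1 h0
      exact ⟨g i ^ n, fun h => hi (P.2.mem_of_pow_mem n h), hn⟩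
    by_contra hne
    let ann : Ideal A := LinearMap.ker (LinearMap.toSpanSingleton A A x)
    obtain ⟨Q, hQ, hle⟩ := Ideal.exists_le_maximal ann fun h =>
      hne (by simpa [ann] using (h.ge Submodule.mem_top : (1 : A) ∈ ann))
    obtain ⟨t, htQ, ht⟩ := hann ⟨Q, hQ.isPrime⟩
    exact htQ (hle (by simpa [ann] using ht))
  -- `K` is a module over `A ⧸ I`
  have hT : Module.IsTorsionBySet A K (I : Set A) := by
    intro k y
    apply Subtype.ext
    show (y : A) • (k : N.C) = 0
    rw [Algebra.smul_def]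
    exact N.sq _ _ ((N.p.commutes y.1).trans (Ideal.Quotient.eq_zero_iff_mem.2 y.2)) k.2
  letI : Module (A ⧸ I) K := hT.module
  haveI : IsScalarTower A (A ⧸ I) K := hT.isScalarTower
  let q : K →ₗ[A ⧸ I] M :=
    { toFun := fun k => ⟨Ideal.Quotient.mk _ k.1, k.2⟩
      map_add' := fun _ _ => rfl
      map_smul' := fun z k => by
        obtain ⟨z, rfl⟩ := Ideal.Quotient.mk_surjective z
        apply Subtype.ext
        show Ideal.Quotient.mk (I.map (algebraMap A N.C)) (z • k.1) =
          Ideal.Quotient.mk I z • Ideal.Quotient.mk (I.map (algebraMap A N.C)) k.1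
        rw [Algebra.smul_def, Algebra.smul_def, map_mul]
        rfl }
  have hq : Function.Surjective q := by
    intro m
    obtain ⟨z, hz⟩ := Ideal.Quotient.mk_surjective m.1
    exact ⟨⟨z, by
      show N.p z = 0
      rw [← N.pD_mk z, hz]
      exact m.2⟩, Subtype.ext hz⟩
  obtain ⟨s, hs⟩ := Module.projective_lifting_property q LinearMap.id hq
  -- `ker q = I`
  have himg : ∀ z ∈ I.map (algebraMap A N.C), ∃ y : I, algebraMap A N.C y = z := by
    intro z hz
    refine Submodule.span_induction ?_ ?_ ?_ ?_ hz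
    · rintro _ ⟨y, hy, rfl⟩
      exact ⟨⟨y, hy⟩, rfl⟩
    · exact ⟨0, by simp⟩
    · rintro _ _ _ _ ⟨y, rfl⟩ ⟨y', rfl⟩
      exact ⟨y + y', by simp⟩
    · rintro v _ _ ⟨y, rfl⟩
      obtain ⟨v', hv'⟩ := Ideal.Quotient.mk_surjective (N.p v)
      refine ⟨⟨v' * y.1, I.mul_mem_left _ y.2⟩, ?_⟩
      have h0 : (v - algebraMap A N.C v') * algebraMap A N.C y.1 = 0 :=
        N.sq _ _ (by rw [map_sub, N.p.commutes, Ideal.Quotient.algebraMap_eq, hv', sub_self])
          ((N.p.commutes y.1).trans (Ideal.Quotient.eq_zero_iff_mem.2 y.2))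
      rw [sub_mul, sub_eq_zero] at h0
      rw [map_mul, smul_eq_mul, h0]
  have hmem : ∀ k : K, ∃ y : I, algebraMap A N.C y = (k - s (q k) : K).1 := by
    intro k
    apply himg
    rw [← Ideal.Quotient.eq_zero_iff_mem]
    show ((q (k - s (q k))) : M).1 = 0
    rw [map_sub, show q (s (q k)) = q k from congr($hs (q k)), sub_self]
    rfl
  choose ρ hρ using hmem
  have huniq : ∀ y y' : I, algebraMap A N.C y = algebraMap A N.C y' → y = y' := fun y y' h =>
    Subtype.ext (sub_eq_zero.1 (hinj _ (I.sub_mem y.2 y'.2) (by rw [map_sub, h, sub_self])))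
  -- define the retraction
  choose sec hsec using Ideal.Quotient.mk_surjective (I := I)
  have hk : ∀ x, x - algebraMap A N.C (sec (N.p x)) ∈ K := fun x => by
    show N.p (x - algebraMap A N.C (sec (N.p x))) = 0
    rw [map_sub, N.p.commutes, Ideal.Quotient.algebraMap_eq, hsec, sub_self]
  let r₀ : N.C → A := fun x => sec (N.p x) + ρ ⟨_, hk x⟩
  -- the kernel of `r₀`
  let L : Submodule A N.C := (LinearMap.range s |>.restrictScalars A).map K.subtype
  have hr₀ : ∀ x, x - algebraMap A N.C (r₀ x) ∈ L := by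
    intro x
    refine ⟨s (q ⟨_, hk x⟩), ⟨q ⟨_, hk x⟩, rfl⟩, ?_⟩
    show ((s (q ⟨_, hk x⟩)) : N.C) = x - algebraMap A N.C (sec (N.p x) + ρ ⟨_, hk x⟩)
    rw [map_add, hρ]
    show ((s (q ⟨_, hk x⟩)) : N.C) =
      x - (algebraMap A N.C (sec (N.p x)) + ((x - algebraMap A N.C (sec (N.p x))) -
        ((s (q ⟨_, hk x⟩)) : N.C)))
    ring
  have hL : ∀ y : A, algebraMap A N.C y ∈ L → y = 0 := by
    rintro y ⟨k, ⟨m, rfl⟩, hk'⟩
    have hyI : y ∈ I := by
      rw [← Ideal.Quotient.eq_zero_iff_mem, ← Ideal.Quotient.algebraMap_eq, ← N.p.commutes, ← hk']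
      exact (s m).2
    apply hinj y hyI
    have h1 : q (s m) = 0 := Subtype.ext (by
      show Ideal.Quotient.mk _ ((s m) : N.C) = 0
      rw [show ((s m) : N.C) = algebraMap A N.C y from hk', Ideal.Quotient.eq_zero_iff_mem]
      exact Ideal.mem_map_of_mem _ hyI)
    have h2 : m = 0 := (congr($hs m)).symm.trans h1
    rw [← hk', h2, map_zero, map_zero]
  have hLp : ∀ z ∈ L, N.p z = 0 := by
    rintro _ ⟨k, -, rfl⟩
    exact k.2
  have hu : ∀ x y, x - algebraMap A N.C y ∈ L → r₀ x = y := fun x y h => by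
    refine sub_eq_zero.1 (hL _ ?_)
    rw [map_sub]
    convert L.sub_mem h (hr₀ x) using 1
    abel
  have hLmul : ∀ x, ∀ z ∈ L, x * z ∈ L := by
    intro x z hz
    obtain ⟨y, hy⟩ := Ideal.Quotient.mk_surjective (N.p x)
    have h0 : (x - algebraMap A N.C y) * z = 0 :=
      N.sq _ _ (by rw [map_sub, N.p.commutes, Ideal.Quotient.algebraMap_eq, hy, sub_self]) (hLp z hz)
    rw [sub_mul, sub_eq_zero] at h0
    rw [h0, ← Algebra.smul_def]
    exact L.smul_mem y hz
  refine ⟨{ toFun := r₀
            map_one' := hu 1 1 (by simp)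
            map_mul' := fun x y => hu _ _ ?_
            map_zero' := hu 0 0 (by simp)
            map_add' := fun x y => hu _ _ ?_
            commutes' := fun y => hu _ _ (by simp) }, fun x => ?_⟩
  · convert L.add_mem (hLmul y _ (hr₀ x)) (hLmul (algebraMap A N.C (r₀ x)) _ (hr₀ y)) using 1
    rw [map_mul]
    ring
  · convert L.add_mem (hr₀ x) (hr₀ y) using 1
    rw [map_add]
    ring
  · show Ideal.Quotient.mk I (r₀ x) = N.p x
    have := hLp _ (hr₀ x)
    rw [map_sub, N.p.commutes, sub_eq_zero] at this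
    exact this.symm

/-- Formal smoothness on affine charts gives the lifting property. -/
theorem exists_lift_of_charts {X Y : Scheme.{u}} (f : X ⟶ Y)
    (h : ∀ (U : X.Opens) (V : Y.Opens), IsAffineOpen U → IsAffineOpen V → ∀ hUV : U ≤ f ⁻¹ᵁ V,
      letI := (f.appLE V U hUV).hom.toAlgebra
      Algebra.FormallySmooth Γ(Y, V) Γ(X, U))
    (A : Type u) [CommRing A] (I : Ideal A) (hI : I ^ 2 = ⊥)
    (a : Spec (CommRingCat.of (A ⧸ I)) ⟶ X) (b : Spec (CommRingCat.of A) ⟶ Y)
    (w : Spec.map (CommRingCat.ofHom (Ideal.Quotient.mk I)) ≫ b = a ≫ f) :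
    ∃ l : Spec (CommRingCat.of A) ⟶ X,
      Spec.map (CommRingCat.ofHom (Ideal.Quotient.mk I)) ≫ l = a ∧ l ≫ f = b := by
  obtain ⟨C, _, _, p, ξ, h1, h2, h3, h4, h5, h6⟩ := exists_nbhd f A I hI a b w
  let N : Nbhd f I a b := ⟨C, p, ξ, h1, h2, h3, h4, h5, h6⟩
  let G : Set A := {g | Nonempty (Chart f I a b g)}
  have hspan : Ideal.span G = ⊤ := by
    by_contra hne
    obtain ⟨Q, hQ, hle⟩ := Ideal.exists_le_maximal _ hne
    obtain ⟨g, hgQ, hg⟩ := exists_chart w hI ⟨Q, hQ.isPrime⟩
    exact hgQ (hle (Ideal.subset_span hg))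
  obtain ⟨G', hG', hspan'⟩ := (Ideal.span_eq_top_iff_finite G).1 hspan
  let c := fun g : G' => (hG' g.2 : Nonempty (Chart f I a b g.1))
  obtain ⟨r, hr⟩ := exists_retraction N (fun g : G' => g.1)
    (by
      rw [Set.range_comp' (Ideal.Quotient.mk I), ← Ideal.map_span]
      simp [hspan', Ideal.map_top])
    (fun g => (c g).some.exists_lift w hI N (h _ _ (c g).some.hU (c g).some.hV _))
    hI (fun g => (c g).some.projective w N (h _ _ (c g).some.hU (c g).some.hV _))
  refine ⟨Spec.map (CommRingCat.ofHom r.toRingHom) ≫ ξ, ?_, ?_⟩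
  · rw [← Spec.map_comp_assoc, ← CommRingCat.ofHom_comp,
      show (Ideal.Quotient.mk I).comp r.toRingHom = p.toRingHom from RingHom.ext hr, h4]
  · rw [Category.assoc, h3, ← Spec.map_comp_assoc, ← CommRingCat.ofHom_comp,
      show r.toRingHom.comp (algebraMap A C) = RingHom.id A from RingHom.ext r.commutes]
    simp

end Groth.FSmooth
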