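import Mathlib
import Groth.Agent.IdealComap.Basic
import Groth.Agent.SepDescent.Basic
import Groth.Agent.ChevAffine.Basic

/-!
# The first order neighbourhood of a point `Spec (A/I) → X ×_Y Spec A` is affine

`exists_nbhd` gives the ring `C` of the neighbourhood with its universal property among square zero
extensions.
-/

set_option autoImplicit false

universe u

open CategoryTheory CategoryTheory.Limits AlgebraicGeometry

namespace Groth.FSmooth

/-- An ideal of square zero does not change the spectrum. -/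
lemma surjective_SpecMap {R S : Type u} [CommRing R] [CommRing S] (φ : R →+* S)
    (hs : Function.Surjective φ) (hφ : ∀ x y, φ x = 0 → φ y = 0 → x * y = 0) :
    Function.Surjective (Spec.map (CommRingCat.ofHom φ)).base := by
  intro p
  have h : p ∈ Set.range (PrimeSpectrum.comap φ) := by
    rw [range_comap_of_surjective _ _ hs]
    intro x hx
    exact (p.2.mem_or_mem ((hφ x x hx hx) ▸ p.asIdeal.zero_mem)).elim id id
  exact h

lemma ker_SpecMap_sq {R S : Type u} [CommRing R] [CommRing S] (φ : R →+* S)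
    (hφ : ∀ x y, φ x = 0 → φ y = 0 → x * y = 0) :
    (Spec.map (CommRingCat.ofHom φ)).ker * (Spec.map (CommRingCat.ofHom φ)).ker = ⊥ := by
  refine Scheme.IdealSheafData.ext_of_isAffine ?_
  simp only [Scheme.IdealSheafData.ideal_mul, Scheme.IdealSheafData.ideal_bot, Pi.mul_apply,
    Pi.bot_apply, Scheme.Hom.ker_apply]
  refine eq_bot_iff.2 (Ideal.mul_le.2 fun x hx y hy => ?_)
  have key : ∀ z : Γ(Spec (.of R), ⊤), (Spec.map (CommRingCat.ofHom φ)).appTop z = 0 →
      φ ((Scheme.ΓSpecIso (.of R)).hom z) = 0 := by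
    intro z hz
    have := congr($(Scheme.ΓSpecIso_naturality (CommRingCat.ofHom φ)) z)
    rw [CommRingCat.comp_apply, CommRingCat.comp_apply, hz, map_zero] at this
    exact this.symm
  rw [Submodule.mem_bot]
  apply (Scheme.ΓSpecIso (.of R)).commRingCatIsoToRingEquiv.injective
  rw [map_mul, map_zero]
  exact hφ _ _ (key x hx) (key y hy)

/-- The criterion for landing in the first order neighbourhood. -/
lemma pow_two_le_ker {T T' W Y' : Scheme.{u}} (σ : T ⟶ W) (i : T' ⟶ Y') (h : Y' ⟶ W) (t : T' ⟶ T)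
    (hsq : i.ker * i.ker = ⊥) (w : i ≫ h = t ≫ σ) : σ.ker ^ 2 ≤ h.ker := by
  have h1 : σ.ker.comap h ≤ i.ker := by
    rw [← Scheme.IdealSheafData.le_map_iff_comap_le, Scheme.IdealSheafData.map_ker, w]
    exact t.le_ker_comp σ
  have h2 : (⊥ : Y'.IdealSheafData).map h = h.ker := by
    rw [← Scheme.Hom.ker_eq_bot_of_isIso (𝟙 Y'), Scheme.IdealSheafData.map_ker, Category.id_comp]
  rw [← h2, Scheme.IdealSheafData.le_map_iff_comap_le]
  let S := {p : Y'.affineOpens × W.affineOpens // p.1.1 ≤ h ⁻¹ᵁ p.2.1}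
  refine Scheme.IdealSheafData.le_of_iSup_eq_top (fun p : S => p.1.1) ?_ ?_
  · rw [eq_top_iff]
    intro y _
    obtain ⟨_, ⟨V, hV, rfl⟩, hyV, -⟩ :=
      W.isBasis_affineOpens.exists_subset_of_mem_open (Set.mem_univ (h y)) isOpen_univ
    obtain ⟨_, ⟨U, hU, rfl⟩, hyU, hUV⟩ :=
      Y'.isBasis_affineOpens.exists_subset_of_mem_open hyV (V.2.preimage h.continuous)
    exact TopologicalSpace.Opens.mem_iSup.2 ⟨⟨(⟨U, hU⟩, ⟨V, hV⟩), hUV⟩, hyU⟩
  · rintro ⟨⟨U, V⟩, hUV⟩
    have hsqU : i.ker.ideal U * i.ker.ideal U = ⊥ := by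
      have := congr($(congrArg Scheme.IdealSheafData.ideal hsq) U)
      simpa using this
    have h1U := h1 U
    rw [Groth.Agent.IdealComap.ideal_comap _ h U V hUV] at h1U
    rw [Groth.Agent.IdealComap.ideal_comap _ h U V hUV, Scheme.IdealSheafData.ideal_pow, Pi.pow_apply,
      Ideal.map_pow, pow_two, Scheme.IdealSheafData.ideal_bot, Pi.bot_apply, ← hsqU]
    exact Ideal.mul_mono h1U h1U

/-- The square of the kernel of `T ⟶ Z₀` vanishes when `Z₀` is cut out by the square of the
ideal of `T`. -/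
lemma ker_sq_of_subscheme {T W : Scheme.{u}} (σ : T ⟶ W) [QuasiCompact σ]
    (e : T ⟶ (σ.ker ^ 2).subscheme) [QuasiCompact e]
    (he : e ≫ (σ.ker ^ 2).subschemeι = σ) : e.ker * e.ker = ⊥ := by
  refine eq_bot_iff.2 ?_
  let ι := (σ.ker ^ 2).subschemeι
  refine Scheme.IdealSheafData.le_of_iSup_eq_top
    (fun V : W.affineOpens => ⟨ι ⁻¹ᵁ V.1, V.2.preimage ι⟩) ?_ ?_
  · rw [← Scheme.Hom.preimage_iSup, iSup_affineOpens_eq_top]
    rfl
  · intro V
    simp only [Scheme.IdealSheafData.ideal_mul, Pi.mul_apply, Scheme.IdealSheafData.ideal_bot,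
      Pi.bot_apply, Scheme.Hom.ker_apply]
    refine Ideal.mul_le.2 fun x hx y hy => ?_
    have key : ∀ z, (e.app (ι ⁻¹ᵁ V.1)) z = 0 → ∃ z' ∈ σ.ker.ideal V, ι.app V.1 z' = z := by
      intro z hz
      obtain ⟨z', rfl⟩ := (σ.ker ^ 2).subschemeι_app_surjective V z
      refine ⟨z', ?_, rfl⟩
      rw [Scheme.Hom.ker_apply, RingHom.mem_ker]
      have h := Scheme.Hom.congr_app he V.1
      rw [Scheme.Hom.comp_app] at h
      have := congr($h z')
      simp only [CommRingCat.comp_apply] at this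
      rw [hz] at this
      exact (ConcreteCategory.bijective_of_isIso
        (T.presheaf.map _)).1 (this.symm.trans (map_zero _).symm)
    obtain ⟨x', hx', rfl⟩ := key x hx
    obtain ⟨y', hy', rfl⟩ := key y hy
    rw [Submodule.mem_bot, ← map_mul, ← RingHom.mem_ker,
      Scheme.IdealSheafData.ker_subschemeι_app, Scheme.IdealSheafData.ideal_pow, Pi.pow_apply,
      pow_two]
    exact Ideal.mul_mem_mul hx' hy'

/-- The first order neighbourhood. -/
theorem exists_nbhd {X Y : Scheme.{u}} (f : X ⟶ Y) (A : Type u) [CommRing A] (I : Ideal A)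
    (hI : I ^ 2 = ⊥) (a : Spec (CommRingCat.of (A ⧸ I)) ⟶ X) (b : Spec (CommRingCat.of A) ⟶ Y)
    (w : Spec.map (CommRingCat.ofHom (Ideal.Quotient.mk I)) ≫ b = a ≫ f) :
    ∃ (C : Type u) (_ : CommRing C) (_ : Algebra A C) (p : C →ₐ[A] A ⧸ I)
      (ξ : Spec (CommRingCat.of C) ⟶ X),
      Function.Surjective p ∧ (∀ x y, p x = 0 → p y = 0 → x * y = 0) ∧
      ξ ≫ f = Spec.map (CommRingCat.ofHom (algebraMap A C)) ≫ b ∧
      Spec.map (CommRingCat.ofHom p.toRingHom) ≫ ξ = a ∧
      (∀ (E : Type u) [CommRing E] [Algebra A E] (B' : Type u) [CommRing B'] [Algebra A B']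
        (π : E →ₐ[A] B'), Function.Surjective π → (∀ x y, π x = 0 → π y = 0 → x * y = 0) →
        ∀ (β : A ⧸ I →ₐ[A] B') (l : Spec (CommRingCat.of E) ⟶ X),
          l ≫ f = Spec.map (CommRingCat.ofHom (algebraMap A E)) ≫ b →
          Spec.map (CommRingCat.ofHom π.toRingHom) ≫ l =
            Spec.map (CommRingCat.ofHom β.toRingHom) ≫ a →
          ∃ r : C →ₐ[A] E, π.comp r = β.comp p ∧
            Spec.map (CommRingCat.ofHom r.toRingHom) ≫ ξ = l) ∧
      (∀ (E : Type u) [CommRing E] [Algebra A E] (r r' : C →ₐ[A] E),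
        Spec.map (CommRingCat.ofHom r.toRingHom) ≫ ξ =
          Spec.map (CommRingCat.ofHom r'.toRingHom) ≫ ξ → r = r') := by
  let i : Spec (.of (A ⧸ I)) ⟶ Spec (.of A) :=
    Spec.map (CommRingCat.ofHom (Ideal.Quotient.mk I))
  haveI : IsClosedImmersion i :=
    IsClosedImmersion.spec_of_surjective _ Ideal.Quotient.mk_surjective
  have hmk : ∀ x y : A, Ideal.Quotient.mk I x = 0 → Ideal.Quotient.mk I y = 0 → x * y = 0 := by
    intro x y hx hy
    rw [← Ideal.mem_bot, ← hI, pow_two]
    exact Ideal.mul_mem_mul (Ideal.Quotient.eq_zero_iff_mem.1 hx)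
      (Ideal.Quotient.eq_zero_iff_mem.1 hy)
  let σ : Spec (.of (A ⧸ I)) ⟶ pullback f b := pullback.lift a i w.symm
  haveI : IsImmersion (σ ≫ pullback.snd f b) := by
    rw [pullback.lift_snd]; infer_instance
  haveI : IsImmersion σ := IsImmersion.of_comp σ (pullback.snd f b)
  let σ' := σ.liftCoborder
  let J := σ'.ker ^ 2
  let ζ : J.subscheme ⟶ pullback f b := J.subschemeι ≫ σ.coborderRange.ι
  have hle : J.subschemeι.ker ≤ σ'.ker := by
    rw [Scheme.IdealSheafData.ker_subschemeι]
    intro U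
    rw [Scheme.IdealSheafData.ideal_pow, Pi.pow_apply]
    exact Ideal.pow_le_self two_ne_zero
  let e := IsClosedImmersion.lift J.subschemeι σ' hle
  have he : e ≫ J.subschemeι = σ' := IsClosedImmersion.lift_fac _ _ _
  have heζ : e ≫ ζ = σ := by
    rw [← Category.assoc, he, Scheme.Hom.liftCoborder_ι]
  haveI : IsClosedImmersion (e ≫ J.subschemeι) := by rw [he]; infer_instance
  haveI : IsClosedImmersion e := IsClosedImmersion.of_comp_isClosedImmersion e J.subschemeι
  haveI : Surjective e := by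
    refine ⟨fun z => ?_⟩
    have hz : J.subschemeι z ∈ (J.support : Set σ.coborderRange) := by
      rw [← Scheme.IdealSheafData.range_subschemeι]; exact ⟨z, rfl⟩
    rw [Scheme.IdealSheafData.support_pow_succ, Scheme.Hom.support_ker,
      σ'.isClosedEmbedding.isClosed_range.closure_eq] at hz
    obtain ⟨t, ht⟩ := hz
    exact ⟨t, J.subschemeι.injective (by rw [← Scheme.Hom.comp_apply, he, ht])⟩
  let q : J.subscheme ⟶ Spec (.of A) := ζ ≫ pullback.snd f b
  have heq : e ≫ q = i := by
    rw [← Category.assoc, heζ, pullback.lift_snd]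
  haveI : IsSeparated (e ≫ q) := by rw [heq]; infer_instance
  haveI : IsSeparated q := Groth.Agent.SepDescent.isSeparated_of_comp e q
  haveI : IsAffine J.subscheme :=
    Groth.Agent.ChevAffine.isAffine_of_finite_fibres (R := A) (B := A ⧸ I)
      (fun P => ((Set.finite_singleton P).preimage
        (PrimeSpectrum.comap_injective_of_surjective _ Ideal.Quotient.mk_surjective).injOn)) e q heq
  let iso := J.subscheme.isoSpec
  let φ : CommRingCat.of A ⟶ Γ(J.subscheme, ⊤) := Spec.preimage (iso.inv ≫ q)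
  letI : Algebra A Γ(J.subscheme, ⊤) := φ.hom.toAlgebra
  have hφ : Spec.map (CommRingCat.ofHom (algebraMap A Γ(J.subscheme, ⊤))) = iso.inv ≫ q :=
    Spec.map_preimage _
  let ε : Γ(J.subscheme, ⊤) ⟶ CommRingCat.of (A ⧸ I) := e.appTop ≫ (Scheme.ΓSpecIso _).hom
  have hε : Spec.map ε = e ≫ iso.hom := by
    rw [Spec.map_comp, ← Scheme.isoSpec_Spec_hom, ← Scheme.isoSpec_hom_naturality]
  have hcomm : φ ≫ ε = CommRingCat.ofHom (Ideal.Quotient.mk I) := by
    apply Spec.map_injective
    rw [Spec.map_comp, hε, Spec.map_preimage, Category.assoc, Iso.hom_inv_id_assoc, heq]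
  let p : Γ(J.subscheme, ⊤) →ₐ[A] A ⧸ I :=
    { ε.hom with commutes' := fun r => congr($hcomm r) }
  have hp : CommRingCat.ofHom p.toRingHom = ε := rfl
  let ξ : Spec Γ(J.subscheme, ⊤) ⟶ X := iso.inv ≫ ζ ≫ pullback.fst f b
  refine ⟨Γ(J.subscheme, ⊤), inferInstance, inferInstance, p, ξ, ?_, ?_, ?_, ?_, ?_, ?_⟩
  · exact (Scheme.ΓSpecIso (.of (A ⧸ I))).commRingCatIsoToRingEquiv.surjective.comp
      (Scheme.Hom.app_surjective e ⊤ (isAffineOpen_top _))
  · intro x y hx hy
    have key : ∀ z, p z = 0 → z ∈ e.ker.ideal ⟨⊤, isAffineOpen_top _⟩ := by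
      intro z hz
      rw [Scheme.Hom.ker_apply, RingHom.mem_ker]
      exact (Scheme.ΓSpecIso (.of (A ⧸ I))).commRingCatIsoToRingEquiv.injective
        (hz.trans (map_zero _).symm)
    have hsq : e.ker * e.ker = ⊥ := ker_sq_of_subscheme σ' e he
    have := congr($(congrArg Scheme.IdealSheafData.ideal hsq) ⟨⊤, isAffineOpen_top _⟩)
    simp only [Scheme.IdealSheafData.ideal_mul, Pi.mul_apply, Scheme.IdealSheafData.ideal_bot,
      Pi.bot_apply] at this
    rw [← Ideal.mem_bot, ← this]
    exact Ideal.mul_mem_mul (key x hx) (key y hy)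
  · rw [hφ]
    simp only [ξ, q, Category.assoc, pullback.condition]
  · rw [hp, hε]
    simp only [ξ, Category.assoc, Iso.hom_inv_id_assoc]
    rw [← Category.assoc e, heζ, pullback.lift_fst]
  · intro E _ _ B' _ _ π hπs hπ β l hl1 hl2
    let k : Spec (.of E) ⟶ pullback f b :=
      pullback.lift l (Spec.map (CommRingCat.ofHom (algebraMap A E))) hl1
    have hk : Spec.map (CommRingCat.ofHom π.toRingHom) ≫ k =
        Spec.map (CommRingCat.ofHom β.toRingHom) ≫ σ := by
      apply pullback.hom_ext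
      · simp only [k, σ, Category.assoc]
        erw [pullback.lift_fst, pullback.lift_fst]
        exact hl2
      · simp only [k, σ, i, Category.assoc, pullback.lift_snd, ← Spec.map_comp,
          ← CommRingCat.ofHom_comp]
        congr 2
        exact RingHom.ext fun r => (π.commutes r).trans (β.commutes r).symm
    have hrange : Set.range k ⊆ Set.range σ.coborderRange.ι := by
      rintro _ ⟨z, rfl⟩
      obtain ⟨z', rfl⟩ := surjective_SpecMap π.toRingHom hπs hπ z
      rw [← Scheme.Hom.comp_apply, hk, Scheme.Hom.comp_apply, Scheme.Opens.range_ι]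
      exact subset_coborder ⟨_, rfl⟩
    let k' := IsOpenImmersion.lift σ.coborderRange.ι k hrange
    have hk' : Spec.map (CommRingCat.ofHom π.toRingHom) ≫ k' =
        Spec.map (CommRingCat.ofHom β.toRingHom) ≫ σ' := by
      rw [← cancel_mono σ.coborderRange.ι, Category.assoc, Category.assoc,
        IsOpenImmersion.lift_fac, Scheme.Hom.liftCoborder_ι, hk]
    have hker : J.subschemeι.ker ≤ k'.ker := by
      rw [Scheme.IdealSheafData.ker_subschemeι]
      exact pow_two_le_ker σ' _ k' _ (ker_SpecMap_sq π.toRingHom hπ) hk'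
    let m := IsClosedImmersion.lift J.subschemeι k' hker
    have hm : m ≫ ζ = k := by
      rw [← Category.assoc, IsClosedImmersion.lift_fac, IsOpenImmersion.lift_fac]
    let ρ : Γ(J.subscheme, ⊤) ⟶ CommRingCat.of E := Spec.preimage (m ≫ iso.hom)
    have hρA : φ ≫ ρ = CommRingCat.ofHom (algebraMap A E) := by
      apply Spec.map_injective
      rw [Spec.map_comp, Spec.map_preimage, Spec.map_preimage, Category.assoc,
        Iso.hom_inv_id_assoc]
      simp only [q]
      rw [← Category.assoc, hm, pullback.lift_snd]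
    let r : Γ(J.subscheme, ⊤) →ₐ[A] E := { ρ.hom with commutes' := fun r => congr($hρA r) }
    have hr : Spec.map (CommRingCat.ofHom r.toRingHom) ≫ iso.inv ≫ ζ = k := by
      rw [show CommRingCat.ofHom r.toRingHom = ρ from rfl, Spec.map_preimage, Category.assoc,
        Iso.hom_inv_id_assoc, hm]
    refine ⟨r, ?_, ?_⟩
    · have h : CommRingCat.ofHom r.toRingHom ≫ CommRingCat.ofHom π.toRingHom =
          ε ≫ CommRingCat.ofHom β.toRingHom := by
        apply Spec.map_injective
        rw [← cancel_mono iso.inv, ← cancel_mono ζ, Spec.map_comp, Spec.map_comp, hε]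
        simp only [Category.assoc, Iso.hom_inv_id_assoc]
        rw [hr, hk, heζ]
      exact AlgHom.ext fun z => congr($h z)
    · have := congrArg (· ≫ pullback.fst f b) hr
      simp only [Category.assoc, k] at this
      erw [pullback.lift_fst] at this
      exact this
  · intro E _ _ r r' h
    have hsnd : ∀ s : Γ(J.subscheme, ⊤) →ₐ[A] E, Spec.map (CommRingCat.ofHom s.toRingHom) ≫ iso.inv ≫ q =
        Spec.map (CommRingCat.ofHom (algebraMap A E)) := by
      intro s
      rw [← hφ, ← Spec.map_comp, ← CommRingCat.ofHom_comp]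
      congr 2
      exact RingHom.ext s.commutes
    have h2 : Spec.map (CommRingCat.ofHom r.toRingHom) ≫ iso.inv ≫ ζ =
        Spec.map (CommRingCat.ofHom r'.toRingHom) ≫ iso.inv ≫ ζ := by
      apply pullback.hom_ext
      · simpa [ξ] using h
      · simpa [q] using (hsnd r).trans (hsnd r').symm
    haveI : Mono ζ := mono_comp _ _
    have h3 := (cancel_mono iso.inv).1
      ((cancel_mono ζ).1 ((Category.assoc _ _ _).trans (h2.trans (Category.assoc _ _ _).symm)))
    exact AlgHom.ext fun z => congr($(Spec.map_injective h3) z)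

end Groth.FSmooth
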